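import Mathlib
import Cfsg.Agent.S0035
import Cfsg.Agent.Lib.Lead.Basic

set_option autoImplicit false
open Pointwise

namespace Cfsg.Agent.Lib.Lead

open Subgroup Cfsg.Agent.Lib.Helper1

variable {G : Type*} [Group G]

/-- If a nontrivial normal subgroup of `L` lies in a conjugate of a Frobenius complement, so does
`L`. -/
theorem frob_le_conj_of_normal {H : Subgroup G} (hH : Cfsg.IsFrobeniusComplement H)
    {L M : Subgroup G} (hM : M ≠ ⊥) (hLM : L ≤ normalizer (M : Set G)) {g : G}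
    (hMg : M ≤ MulAut.conj g • H) : L ≤ MulAut.conj g • H := by
  obtain ⟨y, hy1⟩ := (M.ne_bot_iff_exists_ne_one).1 hM
  have hy1' : (y : G) ≠ 1 := fun h => hy1 (Subtype.ext h)
  intro a ha
  have h1 : a * y * a⁻¹ ∈ M := (mem_normalizer_iff.1 (hLM ha) y).1 y.2
  have h2 : a * y * a⁻¹ ∈ MulAut.conj (a * g) • H := by
    rw [mem_conj_smul]
    have h3 := hMg y.2
    rw [mem_conj_smul] at h3
    convert h3 using 1
    group
  have h4 : a * y * a⁻¹ ≠ 1 := by
    intro h
    apply hy1'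
    have : (y : G) = a⁻¹ * (a * y * a⁻¹) * a := by group
    rw [this, h]; group
  have h5 := frob_inv_mul_mem hH h4 (hMg h1) h2
  rw [mem_conj_smul]
  convert h5 using 1
  group

/-- A subgroup all of whose nonidentity elements lie in conjugates of a Frobenius complement `H`
lies in a single conjugate of `H`. -/
theorem frob_le_conj_aux [Finite G] {H : Subgroup G} (hH : Cfsg.IsFrobeniusComplement H) :
    ∀ (n : ℕ) (L : Subgroup G), Nat.card L = n →
      (∀ x ∈ L, x ≠ 1 → ∃ g : G, x ∈ MulAut.conj g • H) → ∃ g : G, L ≤ MulAut.conj g • H := by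
  intro n
  induction n using Nat.strong_induction_on with
  | _ n ih =>
  intro L hLn hL
  by_cases hbot : L = ⊥
  · exact ⟨1, hbot ▸ bot_le⟩
  obtain ⟨x, hx1⟩ := (L.ne_bot_iff_exists_ne_one).1 hbot
  have hx1' : (x : G) ≠ 1 := fun h => hx1 (Subtype.ext h)
  obtain ⟨g, hg⟩ := hL x x.2 hx1'
  by_cases hle : L ≤ MulAut.conj g • H
  · exact ⟨g, hle⟩
  let S : Subgroup L := (MulAut.conj g • H).subgroupOf L
  have hS : Cfsg.IsFrobeniusComplement S := by
    refine ⟨?_, ?_, ?_⟩
    · intro h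
      have : x ∈ S := hg
      rw [h, mem_bot] at this
      exact hx1 this
    · intro h
      exact hle (subgroupOf_eq_top.1 h)
    · intro a ha
      rw [eq_bot_iff]
      intro z hz
      by_contra hz1
      have hz1' : (z : G) ≠ 1 := fun h => hz1 (Subtype.ext h)
      have h1 : (z : G) ∈ MulAut.conj g • H := hz.1
      have h2 : a⁻¹ * z * a ∈ S := mem_conj_smul.1 hz.2
      have h3 : (a : G)⁻¹ * z * a ∈ MulAut.conj g • H := h2
      have h4 : (z : G) ∈ MulAut.conj ((a : G) * g) • H := by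
        rw [mem_conj_smul] at h3 ⊢
        convert h3 using 1
        group
      have h5 := frob_inv_mul_mem hH hz1' h1 h4
      apply ha
      change (a : G) ∈ MulAut.conj g • H
      rw [mem_conj_smul]
      convert h5 using 1
      group
  obtain ⟨N, hNK, hNn, hNc⟩ := Cfsg.Agent.S0035.result S hS
  have hNbot : N ≠ ⊥ := by
    intro h
    rw [h] at hNc
    exact hS.2.1 (isComplement'_bot_left.1 hNc)
  have hNtop : N ≠ ⊤ := by
    intro h
    rw [h] at hNc
    exact hS.1 (isComplement'_top_left.1 hNc)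
  have hcard : Nat.card (N.map L.subtype) < n := by
    rw [card_map_of_injective L.subtype_injective, ← hLn]
    exact card_lt_of_ne_top N hNtop
  obtain ⟨g', hg'⟩ := ih _ hcard (N.map L.subtype) rfl
    (fun x hx hx1 => hL x (map_subtype_le _ hx) hx1)
  refine ⟨g', frob_le_conj_of_normal hH (M := N.map L.subtype) ?_ ?_ hg'⟩
  · intro h
    exact hNbot ((map_eq_bot_iff_of_injective N L.subtype_injective).1 h)
  · intro a ha
    rw [mem_normalizer_iff]
    intro y
    constructor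
    · rintro ⟨u, hu, rfl⟩
      exact ⟨⟨a, ha⟩ * u * ⟨a, ha⟩⁻¹, hNn.conj_mem u hu _, rfl⟩
    · rintro ⟨u, hu, hu'⟩
      refine ⟨⟨a, ha⟩⁻¹ * u * ⟨a, ha⟩, ?_, ?_⟩
      · have := hNn.conj_mem u hu ⟨a, ha⟩⁻¹
        simpa using this
      · simp only [subtype_apply, coe_mul, InvMemClass.coe_inv]
        have hu'' : (u : G) = a * y * a⁻¹ := hu'
        rw [hu'']; group

theorem frob_le_conj [Finite G] {H : Subgroup G} (hH : Cfsg.IsFrobeniusComplement H)
    (L : Subgroup G) (hL : ∀ x ∈ L, x ≠ 1 → ∃ g : G, x ∈ MulAut.conj g • H) :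
    ∃ g : G, L ≤ MulAut.conj g • H :=
  frob_le_conj_aux hH _ L rfl hL

theorem frob_kernel_inf {H N : Subgroup G} (hN : (N : Set G) = Cfsg.frobeniusKernel H) :
    N ⊓ H = ⊥ := by
  rw [eq_bot_iff]
  intro x hx
  have h1 : x ∈ Cfsg.frobeniusKernel H := hN ▸ hx.1
  rcases h1 with h1 | h1
  · exact h1
  · exact absurd (by simpa using hx.2) (h1 1)

/-- A normal subgroup of a Frobenius group is comparable with the kernel. -/
theorem frob_normal_comparable [Finite G] {H N : Subgroup G} (hH : Cfsg.IsFrobeniusComplement H)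
    (hN : (N : Set G) = Cfsg.frobeniusKernel H) (hNn : N.Normal) (M : Subgroup G) (hM : M.Normal) :
    M ≤ N ∨ N ≤ M := by
  by_cases hMN : M ≤ N
  · left; exact hMN
  right
  obtain ⟨x, hxM, hxN⟩ := SetLike.not_le_iff_exists.1 hMN
  have hxK : x ∉ Cfsg.frobeniusKernel H := hN ▸ hxN
  obtain ⟨hx1, g, hg⟩ := not_mem_frobeniusKernel_iff.1 hxK
  obtain ⟨h, hh⟩ : ∃ h, h = g⁻¹ * x * g := ⟨_, rfl⟩
  have hhH : h ∈ H := hh ▸ mem_conj_smul.1 hg
  have hhM : h ∈ M := by
    have := hM.conj_mem x hxM g⁻¹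
    rw [hh]; simpa using this
  have hh1 : h ≠ 1 := by
    intro h0
    apply hx1
    have : x = g * (g⁻¹ * x * g) * g⁻¹ := by group
    rw [this, ← hh, h0]; group
  let c : N → (N ⊓ M : Subgroup G) := fun k => ⟨k * h * (k : G)⁻¹ * h⁻¹, by
    refine Subgroup.mem_inf.mpr ⟨?_, ?_⟩
    · have : (k : G) * h * (k : G)⁻¹ * h⁻¹ = k * (h * (k : G)⁻¹ * h⁻¹) := by group
      rw [this]
      exact N.mul_mem k.2 (hNn.conj_mem _ (N.inv_mem k.2) _)
    · exact M.mul_mem (hM.conj_mem _ hhM _) (M.inv_mem hhM)⟩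
  have hc : Function.Injective c := by
    intro k k' hkk
    have h1 : (k : G) * h * (k : G)⁻¹ * h⁻¹ = k' * h * (k' : G)⁻¹ * h⁻¹ := congrArg Subtype.val hkk
    have h2 : (k : G) * h * (k : G)⁻¹ = k' * h * (k' : G)⁻¹ := mul_right_cancel h1
    have h3 : (k : G) * h * (k : G)⁻¹ ≠ 1 := by
      intro h0
      apply hh1
      have : h = (k : G)⁻¹ * (k * h * (k : G)⁻¹) * k := by group
      rw [this, h0]; group
    have h4' : (k : G) * h * (k : G)⁻¹ ∈ MulAut.conj (k' : G) • H := by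
      rw [h2]; exact conj_mem_conj_smul hhH
    have h4 := frob_inv_mul_mem hH h3 (conj_mem_conj_smul hhH) h4'
    have h5 : (k : G)⁻¹ * k' ∈ N ⊓ H :=
      Subgroup.mem_inf.mpr ⟨N.mul_mem (N.inv_mem k.2) k'.2, h4⟩
    rw [frob_kernel_inf hN, mem_bot, inv_mul_eq_one] at h5
    exact Subtype.ext h5
  have h6 : Nat.card N ≤ Nat.card (N ⊓ M : Subgroup G) := Nat.card_le_card_of_injective c hc
  have h7 : N ⊓ M = N := eq_of_le_of_card_ge inf_le_left h6
  exact h7 ▸ inf_le_right

end Cfsg.Agent.Lib.Lead
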