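import Mathlib
import Cfsg.Agent.Lib.Lead.FrobConj

set_option autoImplicit false
open Pointwise

namespace Cfsg.Agent.Lib.Lead

open Subgroup Cfsg.Agent.Lib.Helper1

/-- parametrisation of the non-kernel elements of a Frobenius group -/
theorem frob_exists_equiv {G : Type*} [Group G] {H : Subgroup G}
    (hH : Cfsg.IsFrobeniusComplement H) :
    ∃ E : (G ⧸ H) × {h : H // h ≠ 1} ≃ {x : G // x ∉ Cfsg.frobeniusKernel H},
      ∀ ch, (E ch : G) = ch.1.out * ch.2.1 * ch.1.out⁻¹ := by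
  let F : (G ⧸ H) × {h : H // h ≠ 1} → {x : G // x ∉ Cfsg.frobeniusKernel H} := fun ch =>
    ⟨ch.1.out * ch.2.1 * ch.1.out⁻¹, by
      rw [not_mem_frobeniusKernel_iff]
      refine ⟨fun h => ch.2.2 ?_, ch.1.out, conj_mem_conj_smul ch.2.1.2⟩
      have h2 : (ch.2.1 : G) = 1 := by
        have : (ch.2.1 : G) = ch.1.out⁻¹ * (ch.1.out * ch.2.1 * ch.1.out⁻¹) * ch.1.out := by group
        rw [this, h]; group
      exact Subtype.ext h2⟩
  refine ⟨Equiv.ofBijective F ⟨?_, ?_⟩, fun ch => rfl⟩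
  · rintro ⟨c, h⟩ ⟨c', h'⟩ heq
    have heq' : c.out * (h.1 : G) * c.out⁻¹ = c'.out * (h'.1 : G) * c'.out⁻¹ :=
      congrArg Subtype.val heq
    have hne : c.out * (h.1 : G) * c.out⁻¹ ≠ 1 := ((not_mem_frobeniusKernel_iff).1 (F (c, h)).2).1
    have h3 : c.out⁻¹ * c'.out ∈ H :=
      frob_inv_mul_mem hH hne (conj_mem_conj_smul h.1.2) (heq' ▸ conj_mem_conj_smul h'.1.2)
    have h4 : c = c' := by
      rw [← QuotientGroup.out_eq' c, ← QuotientGroup.out_eq' c']
      exact QuotientGroup.eq.2 h3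
    subst h4
    have h5 : (h.1 : G) = h'.1 := by
      have := mul_right_cancel heq'
      exact mul_left_cancel this
    have h6 : h = h' := Subtype.ext (Subtype.ext h5)
    rw [h6]
  · rintro ⟨x, hx⟩
    obtain ⟨hx1, g, hg⟩ := (not_mem_frobeniusKernel_iff).1 hx
    obtain ⟨h0, hh0⟩ := QuotientGroup.mk_out_eq_mul H g
    rw [mem_conj_smul] at hg
    have h7 : (QuotientGroup.mk g : G ⧸ H).out⁻¹ * x * (QuotientGroup.mk g : G ⧸ H).out ∈ H := by
      rw [hh0]
      have : (g * (h0 : G))⁻¹ * x * (g * h0) = (h0 : G)⁻¹ * (g⁻¹ * x * g) * h0 := by group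
      rw [this]
      exact H.mul_mem (H.mul_mem (H.inv_mem h0.2) hg) h0.2
    refine ⟨(QuotientGroup.mk g, ⟨⟨_, h7⟩, ?_⟩), ?_⟩
    · intro h8
      have h9 := congrArg Subtype.val h8
      simp only [OneMemClass.coe_one] at h9
      apply hx1
      have : x = (QuotientGroup.mk g : G ⧸ H).out * ((QuotientGroup.mk g : G ⧸ H).out⁻¹ * x * (QuotientGroup.mk g : G ⧸ H).out) * (QuotientGroup.mk g : G ⧸ H).out⁻¹ := by group
      rw [this, h9]; group
    · apply Subtype.ext
      simp only [F]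
      group

/-- the norm of a fixed-point-free action vanishes -/
theorem norm_eq_one_of_fpf {S W : Type*} [Group S] [Fintype S] [CommGroup W] (β : S →* MulAut W)
    (t : S) (ht : ∀ w : W, β t w = w → w = 1) (w : W) : ∏ s : S, β s w = 1 := by
  apply ht
  rw [map_prod]
  refine Fintype.prod_equiv (Equiv.mulLeft t) _ _ (fun s => ?_)
  simp [map_mul]

/-- A Frobenius group cannot act fixed point freely on an abelian group of coprime order. -/
theorem frob_action_pow_eq_one {X W : Type*} [Group X] [Finite X] [CommGroup W] (α : X →* MulAut W)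
    (hfpf : ∀ x : X, x ≠ 1 → ∀ w : W, α x w = w → w = 1) (Y : Subgroup X)
    (hY : Cfsg.IsFrobeniusComplement Y) (w : W) : w ^ Y.index = 1 := by
  classical
  cases nonempty_fintype X
  obtain ⟨L, hL, hLn, hLc⟩ := Cfsg.Agent.S0035.result Y hY
  have hLbot : L ≠ ⊥ := by
    intro h
    rw [h] at hLc
    exact hY.2.1 (isComplement'_bot_left.1 hLc)
  obtain ⟨l, hl1⟩ := (L.ne_bot_iff_exists_ne_one).1 hLbot
  obtain ⟨y, hy1⟩ := (Y.ne_bot_iff_exists_ne_one).1 hY.1
  have hl1' : (l : X) ≠ 1 := fun h => hl1 (Subtype.ext h)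
  have hy1' : (y : X) ≠ 1 := fun h => hy1 (Subtype.ext h)
  have hX : ∏ x : X, α x w = 1 := norm_eq_one_of_fpf α l (hfpf l hl1') w
  have hLp : ∏ x : L, α x w = 1 := norm_eq_one_of_fpf (α.comp L.subtype) l (hfpf l hl1') w
  have hYp : ∀ w : W, ∏ x : Y, α x w = 1 :=
    fun w => norm_eq_one_of_fpf (α.comp Y.subtype) y (hfpf y hy1') w
  obtain ⟨E, hE⟩ := frob_exists_equiv hY
  rw [← Fintype.prod_subtype_mul_prod_subtype (fun x => x ∈ Cfsg.frobeniusKernel Y)] at hX
  have h1 : ∏ x : {x : X // x ∈ Cfsg.frobeniusKernel Y}, α x w = 1 := by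
    rw [← hLp]
    refine Fintype.prod_equiv (Equiv.setCongr hL.symm) _ _ (fun x => rfl)
  rw [h1, one_mul] at hX
  have h2 : ∏ x : {x : X // x ∉ Cfsg.frobeniusKernel Y}, α x w
      = ∏ ch : (X ⧸ Y) × {h : Y // h ≠ 1}, α (ch.1.out * ch.2.1 * ch.1.out⁻¹) w := by
    symm
    refine Fintype.prod_equiv E _ _ (fun ch => ?_)
    rw [hE]
  rw [h2, Fintype.prod_prod_type] at hX
  have h3 : ∀ c : X ⧸ Y, ∏ h : {h : Y // h ≠ 1}, α (c.out * h.1 * c.out⁻¹) w = w⁻¹ := by
    intro c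
    have h4 : ∏ h : Y, α (c.out * h * c.out⁻¹) w = 1 := by
      have h5 : ∀ h : Y, α (c.out * h * c.out⁻¹) w = α c.out (α h (α c.out⁻¹ w)) := by
        intro h
        simp [map_mul]
      simp_rw [h5]
      rw [← map_prod, hYp, map_one]
    rw [← Finset.mul_prod_erase Finset.univ _ (Finset.mem_univ (1 : Y)),
      Finset.prod_subtype (Finset.univ.erase (1 : Y)) (p := fun h => h ≠ 1) (fun x => by simp)] at h4
    have h6 : α (c.out * ((1 : Y) : X) * c.out⁻¹) w = w := by simp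
    rw [h6] at h4
    exact (eq_inv_of_mul_eq_one_right h4)
  simp_rw [h3] at hX
  rw [Finset.prod_const, Finset.card_univ, inv_pow, inv_eq_one, ← Nat.card_eq_fintype_card] at hX
  exact hX

end Cfsg.Agent.Lib.Lead
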