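import Mathlib
import Cfsg.Agent.Lib.Lead.FrobAction
import Cfsg.Agent.S0589
import Cfsg.Agent.Lib.Helper1.CoprimeSylow

set_option autoImplicit false
open Pointwise

namespace Cfsg.Agent.Lib.Lead

open Subgroup Cfsg.Agent.Lib.Helper1

variable {G : Type*} [Group G]

theorem frob_card_kernel' [Finite G] {H N : Subgroup G} (hH : Cfsg.IsFrobeniusComplement H)
    (hN : (N : Set G) = Cfsg.frobeniusKernel H) : Nat.card N = H.index := by
  rw [← frob_card_kernel hH, ← hN]; rfl

theorem frob_coprime [Finite G] {H N : Subgroup G} (hH : Cfsg.IsFrobeniusComplement H)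
    (hN : (N : Set G) = Cfsg.frobeniusKernel H) : (Nat.card N).Coprime (Nat.card H) := by
  rw [frob_card_kernel' hH hN]
  obtain ⟨t, ht⟩ := frob_index_mod hH
  have h1 : 0 < H.index := Nat.pos_of_ne_zero H.index_ne_zero_of_finite
  have h2 : H.index = 1 + Nat.card H * t := by omega
  rw [h2]
  simp

theorem frob_kernel_ne_bot [Finite G] {H N : Subgroup G} (hH : Cfsg.IsFrobeniusComplement H)
    (hN : (N : Set G) = Cfsg.frobeniusKernel H) : N ≠ ⊥ := by
  intro h
  have h1 := frob_card_kernel' hH hN
  rw [h, card_bot] at h1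
  exact hH.2.1 (index_eq_one.1 h1.symm)

/-- fixed point freeness of the complement on the kernel -/
theorem frob_fpf {H N : Subgroup G} (hH : Cfsg.IsFrobeniusComplement H)
    (hN : (N : Set G) = Cfsg.frobeniusKernel H) {h k : G} (hh : h ∈ H) (hh1 : h ≠ 1) (hk : k ∈ N)
    (hc : h * k * h⁻¹ = k) : k = 1 := by
  have h1 : h ∈ MulAut.conj k • H := by
    rw [mem_conj_smul]
    have : k⁻¹ * h * k = h := by
      calc k⁻¹ * h * k = k⁻¹ * (h * k * h⁻¹) * h := by group
        _ = h := by rw [hc]; group
    rw [this]; exact hh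
  have h2 := frob_inv_mul_mem hH (g := 1) (g' := k) hh1 (by simpa using hh) h1
  have h3 : k ∈ N ⊓ H := Subgroup.mem_inf.mpr ⟨hk, by simpa using h2⟩
  rwa [frob_kernel_inf hN, mem_bot] at h3

/-- For each prime `r`, a Frobenius complement normalizes some Sylow `r`-subgroup of the kernel. -/
theorem frob_exists_invariant_sylow [Finite G] {H N : Subgroup G}
    (hH : Cfsg.IsFrobeniusComplement H) (hN : (N : Set G) = Cfsg.frobeniusKernel H)
    (hNn : N.Normal) (r : ℕ) [Fact r.Prime] :
    ∃ R : Subgroup G, R ≤ N ∧ Nat.card R = r ^ (Nat.card N).factorization r ∧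
      H ≤ normalizer (R : Set G) := by
  obtain ⟨R₀⟩ : Nonempty (Sylow r N) := inferInstance
  have hRcard : Nat.card (sylImg R₀) = r ^ (Nat.card N).factorization r := by
    rw [card_map_of_injective N.subtype_injective, R₀.card_eq_multiplicity]
  have hfr := Sylow.normalizer_sup_eq_top R₀
  obtain ⟨T, hT⟩ : ∃ T, T = normalizer ((sylImg R₀ : Subgroup G) : Set G) := ⟨_, rfl⟩
  rw [← hT] at hfr
  have hcH : N.index = Nat.card H := by
    have h1 := N.card_mul_index
    have h2 := H.index_mul_card
    rw [frob_card_kernel' hH hN] at h1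
    have h3 : 0 < H.index := Nat.pos_of_ne_zero H.index_ne_zero_of_finite
    exact Nat.eq_of_mul_eq_mul_left h3 (h1.trans h2.symm)
  have hidx : (N.subgroupOf T).index = Nat.card H := by
    change N.relIndex T = _
    rw [← relIndex_sup_right T N, hfr, relIndex_top_right, hcH]
  have hNT : (N.subgroupOf T).Normal := hNn.subgroupOf T
  have hcardNT : Nat.card (N.subgroupOf T) ∣ Nat.card N := by
    have : Nat.card (N.subgroupOf T) = Nat.card (N ⊓ T : Subgroup G) :=
      Nat.card_congr (subgroupOfEquivOfLe (inf_le_right : N ⊓ T ≤ T) |>.toEquiv |> fun e => by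
        rw [inf_subgroupOf_right] at e; exact e)
    rw [this]
    exact card_dvd_of_le inf_le_left
  obtain ⟨H₁', hH₁'⟩ := exists_right_complement'_of_coprime (N := N.subgroupOf T)
    (by rw [hidx]; exact Nat.Coprime.of_dvd_left hcardNT (frob_coprime hH hN))
  have hcH₁ : Nat.card (H₁'.map T.subtype) = Nat.card H := by
    rw [card_map_of_injective T.subtype_injective, ← hidx, hH₁'.symm.index_eq_card]
  obtain ⟨x, hx⟩ := Cfsg.Agent.S0589.result H hH (H₁'.map T.subtype) (by rw [hcH₁])
  have hxeq : H₁'.map T.subtype = MulAut.conj x • H :=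
    eq_of_le_of_card_ge hx (by rw [hcH₁, card_conj_smul])
  have hxT : MulAut.conj x • H ≤ T := hxeq ▸ map_subtype_le _
  refine ⟨MulAut.conj x⁻¹ • sylImg R₀, ?_, ?_, ?_⟩
  · intro y hy
    rw [mem_conj_smul] at hy
    have h1 := hNn.conj_mem _ (sylImg_le R₀ hy) x⁻¹
    convert h1 using 1
    group
  · rw [card_conj_smul, hRcard]
  · intro h hh
    rw [mem_normalizer_conj_smul, ← hT]
    apply hxT
    rw [mem_conj_smul]
    convert hh using 1
    group

/-- A Frobenius complement normalizes a nontrivial abelian subgroup of the kernel. -/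
theorem frob_exists_invariant_abelian [Finite G] {H N : Subgroup G}
    (hH : Cfsg.IsFrobeniusComplement H) (hN : (N : Set G) = Cfsg.frobeniusKernel H)
    (hNn : N.Normal) :
    ∃ W : Subgroup G, W ≠ ⊥ ∧ W ≤ N ∧ IsMulCommutative W ∧ H ≤ normalizer (W : Set G) := by
  have hN1 : Nat.card N ≠ 1 := by
    intro h
    exact frob_kernel_ne_bot hH hN (card_eq_one.1 h)
  have hr := Nat.minFac_prime hN1
  have := Fact.mk hr
  obtain ⟨R, hRN, hRc, hHR⟩ := frob_exists_invariant_sylow hH hN hNn (Nat.card N).minFac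
  have hRp : IsPGroup (Nat.card N).minFac R := IsPGroup.of_card hRc
  have hRnt : Nontrivial R := by
    rw [← Finite.one_lt_card_iff_nontrivial, hRc]
    apply Nat.one_lt_pow _ hr.one_lt
    have := (hr.dvd_iff_one_le_factorization Nat.card_pos.ne').1 (Nat.minFac_dvd (Nat.card N))
    omega
  have hZ := hRp.center_nontrivial
  refine ⟨(center R).map R.subtype, ?_, (map_subtype_le _).trans hRN, ?_,
    hHR.trans (normalizer_le_normalizer_map_char _)⟩
  · intro h
    rw [map_eq_bot_iff_of_injective _ R.subtype_injective] at h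
    rw [h] at hZ
    exact not_nontrivial _ hZ
  · exact Subgroup.map_isMulCommutative _ _

end Cfsg.Agent.Lib.Lead
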