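import Mathlib
import Cfsg.Agent.Lib.Lead.FrobInv

set_option autoImplicit false
open Pointwise

namespace Cfsg.Agent.Lib.Lead

open Subgroup Cfsg.Agent.Lib.Helper1

variable {G : Type*} [Group G]

/-- the conjugation action of a subgroup of the normalizer -/
def conjHom {X W : Subgroup G} (hXW : X ≤ normalizer (W : Set G)) : X →* MulAut W where
  toFun x := conjNormalizer (x : G) (hXW x.2)
  map_one' := by
    ext w
    change ((1 : X) : G) * w * ((1 : X) : G)⁻¹ = w
    simp
  map_mul' x y := by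
    ext w
    change ((x * y : X) : G) * w * ((x * y : X) : G)⁻¹ = x * (y * w * (y : G)⁻¹) * (x : G)⁻¹
    simp [mul_assoc]

theorem conjHom_apply_coe {X W : Subgroup G} (hXW : X ≤ normalizer (W : Set G)) (x : X) (w : W) :
    ((conjHom hXW x w : W) : G) = x * w * (x : G)⁻¹ := rfl

/-- A group containing a Frobenius complement cannot act fixed point freely on an abelian
group: concrete version. -/
theorem frob_action_pow_eq_one' [Finite G] {X W : Subgroup G} [IsMulCommutative W]
    (hXW : X ≤ normalizer (W : Set G))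
    (hfpf : ∀ x ∈ X, x ≠ 1 → ∀ w ∈ W, x * w * x⁻¹ = w → w = 1) (Y : Subgroup X)
    (hY : Cfsg.IsFrobeniusComplement Y) {w : G} (hw : w ∈ W) : w ^ Y.index = 1 := by
  open scoped IsMulCommutative in
  have h := frob_action_pow_eq_one (conjHom hXW) (fun x hx w hxw => by
    have h1 := hfpf x x.2 (fun h => hx (Subtype.ext h)) w w.2 (congrArg Subtype.val hxw)
    exact Subtype.ext h1) Y hY ⟨w, hw⟩
  exact congrArg Subtype.val h

theorem frob_conj {H : Subgroup G} (hH : Cfsg.IsFrobeniusComplement H) (g : G) :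
    Cfsg.IsFrobeniusComplement (MulAut.conj g • H) := by
  refine ⟨?_, ?_, ?_⟩
  · intro h
    apply hH.1
    rw [eq_bot_iff] at h ⊢
    intro x hx
    have := h (conj_mem_conj_smul (g := g) hx)
    rw [mem_bot] at this ⊢
    have h2 : x = g⁻¹ * (g * x * g⁻¹) * g := by group
    rw [h2, this]; group
  · intro h
    apply hH.2.1
    rw [eq_top_iff] at h ⊢
    intro x _
    have := h (mem_top (g * x * g⁻¹))
    rw [mem_conj_smul] at this
    convert this using 1
    group
  · intro a ha
    rw [eq_bot_iff]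
    intro z hz
    have ha' : g⁻¹ * a * g ∉ H := fun h => ha (mem_conj_smul.2 h)
    have h1 : g⁻¹ * z * g ∈ H := mem_conj_smul.1 hz.1
    have h2 : g⁻¹ * (a⁻¹ * z * a) * g ∈ H := mem_conj_smul.1 (mem_conj_smul.1 hz.2)
    have h3 : g⁻¹ * z * g ∈ H ⊓ MulAut.conj (g⁻¹ * a * g) • H := by
      refine Subgroup.mem_inf.mpr ⟨h1, ?_⟩
      rw [mem_conj_smul]
      convert h2 using 1
      group
    rw [hH.2.2 _ ha', mem_bot] at h3
    rw [mem_bot]
    have h4 : z = g * (g⁻¹ * z * g) * g⁻¹ := by group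
    rw [h4, h3]; group

/-- A subgroup `H₀ ≤ H` which is TI-self-normalizing in `G` is a Frobenius complement of `H`,
unless it is all of `H`. -/
theorem frob_subgroupOf {H₀ H : Subgroup G} (hH₀ : Cfsg.IsFrobeniusComplement H₀) (hle : H₀ ≤ H)
    (hne : H₀ ≠ H) : Cfsg.IsFrobeniusComplement (H₀.subgroupOf H) := by
  refine ⟨?_, ?_, ?_⟩
  · intro h
    apply hH₀.1
    rw [eq_bot_iff]
    intro x hx
    have h1 : (⟨x, hle hx⟩ : H) ∈ H₀.subgroupOf H := hx
    rw [h, mem_bot] at h1
    exact congrArg Subtype.val h1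
  · intro h
    exact hne (le_antisymm hle (subgroupOf_eq_top.1 h))
  · intro a ha
    rw [eq_bot_iff]
    intro z hz
    have ha' : (a : G) ∉ H₀ := ha
    have h1 : (z : G) ∈ H₀ := hz.1
    have h2 : a⁻¹ * z * a ∈ H₀.subgroupOf H := mem_conj_smul.1 hz.2
    have h3 : (z : G) ∈ H₀ ⊓ MulAut.conj (a : G) • H₀ := by
      refine Subgroup.mem_inf.mpr ⟨h1, ?_⟩
      rw [mem_conj_smul]
      exact h2
    rw [hH₀.2.2 _ ha', mem_bot] at h3
    exact Subtype.ext h3

/-- A Frobenius complement contains no (sub)group having itself a Frobenius complement. -/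
theorem frob_no_frob_in_complement [Finite G] {H : Subgroup G}
    (hH : Cfsg.IsFrobeniusComplement H) (Y : Subgroup H) : ¬ Cfsg.IsFrobeniusComplement Y := by
  intro hY
  obtain ⟨N, hN, hNn, -⟩ := Cfsg.Agent.S0035.result H hH
  obtain ⟨W, hW1, hWN, hWc, hHW⟩ := frob_exists_invariant_abelian hH hN hNn
  apply hW1
  rw [eq_bot_iff]
  intro w hw
  have h1 := frob_action_pow_eq_one' hHW
    (fun x hx hx1 w hw hxw => frob_fpf hH hN hx hx1 (hWN hw) hxw) Y hY hw
  have h2 : orderOf w ∣ Y.index := orderOf_dvd_of_pow_eq_one h1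
  have h3 : orderOf w ∣ Nat.card N := by
    have := orderOf_dvd_natCard (⟨w, hWN hw⟩ : N)
    rwa [Subgroup.orderOf_mk] at this
  have h4 : (Nat.card N).Coprime Y.index :=
    Nat.Coprime.of_dvd_right Y.index_dvd_card (frob_coprime hH hN)
  have h5 : orderOf w = 1 := Nat.eq_one_of_dvd_coprimes h4 h3 h2
  rw [mem_bot]
  exact orderOf_eq_one_iff.1 h5

theorem frob_eq_of_le [Finite G] {H₀ H : Subgroup G} (hH₀ : Cfsg.IsFrobeniusComplement H₀)
    (hH : Cfsg.IsFrobeniusComplement H) (hle : H₀ ≤ H) : H₀ = H := by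
  by_contra hne
  exact frob_no_frob_in_complement hH _ (frob_subgroupOf hH₀ hle hne)

end Cfsg.Agent.Lib.Lead
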