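import Mathlib
import Cfsg.Agent.Lib.Lead.PGroupCyc

set_option autoImplicit false

namespace Cfsg.Agent.Lib.Lead

open Subgroup

theorem mem_zpowers_of_isCyclic {G : Type*} [Group G] [Finite G] {C : Subgroup G}
    (hC : IsCyclic C) {x z : G} (hx : x ∈ C) (hz : z ∈ C) (h : x ^ orderOf z = 1) :
    x ∈ zpowers z := by
  have h1 : (⟨x, hx⟩ : C) ∈ zpowers (⟨z, hz⟩ : C) := by
    apply mem_of_pow_card_eq_one
    rw [Nat.card_zpowers, Subgroup.orderOf_mk]
    exact Subtype.ext h
  obtain ⟨k, hk⟩ := mem_zpowers_iff.1 h1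
  exact mem_zpowers_iff.2 ⟨k, by simpa using congrArg Subtype.val hk⟩

/-- A `p`-group all of whose abelian subgroups are cyclic has a unique subgroup of order `p`. -/
theorem unique_of_abelian_cyclic {Q : Type*} [Group Q] [Finite Q] {p : ℕ} [hp : Fact p.Prime]
    (hQ : IsPGroup p Q) (hab : ∀ B : Subgroup Q, IsMulCommutative B → IsCyclic B) :
    ∀ x y : Q, orderOf x = p → orderOf y = p → x ∈ zpowers y := by
  intro x y hx hy
  have hnt : Nontrivial Q := by
    refine ⟨x, 1, fun h => ?_⟩
    rw [h, orderOf_one] at hx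
    exact hp.out.one_lt.ne hx
  have hZ := hQ.center_nontrivial
  have hpZ : p ∣ Nat.card (center Q) := by
    obtain ⟨k, hk⟩ := IsPGroup.iff_card.1 (hQ.to_subgroup (center Q))
    rcases Nat.eq_zero_or_pos k with h0 | h0
    · exfalso
      rw [h0, pow_zero] at hk
      have := Finite.one_lt_card_iff_nontrivial.2 hZ
      omega
    · rw [hk]; exact dvd_pow_self p (by omega)
  obtain ⟨⟨z, hzc⟩, hz⟩ := exists_prime_orderOf_dvd_card' p hpZ
  rw [Subgroup.orderOf_mk] at hz
  have key : ∀ x : Q, orderOf x = p → x ∈ zpowers z := by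
    intro x hx
    have hB : IsMulCommutative (zpowers x ⊔ zpowers z : Subgroup Q) := by
      apply Cfsg.Agent.Lib.Helper4.isMulCommutative_sup inferInstance inferInstance
      intro a _ b hb
      obtain ⟨k, rfl⟩ := mem_zpowers_iff.1 hb
      have h1 : Commute a z := (mem_center_iff.1 hzc a)
      exact (h1.zpow_right k).eq
    apply mem_zpowers_of_isCyclic (hab _ hB) (mem_sup_left (mem_zpowers x))
      (mem_sup_right (mem_zpowers z))
    rw [hz, ← hx, pow_orderOf_eq_one]
  have h1 : zpowers y = zpowers z := by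
    apply eq_of_le_of_card_ge (zpowers_le.2 (key y hy))
    rw [Nat.card_zpowers, Nat.card_zpowers, hy, hz]
  rw [h1]
  exact key x hx

end Cfsg.Agent.Lib.Lead
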