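import Mathlib
import Cfsg.Agent.Lib.Lead.FrobUnique
import Cfsg.Agent.S0058
import Cfsg.Agent.Lib.Helper1.Nilp

set_option autoImplicit false
open Pointwise

namespace Cfsg.Agent.Lib.Lead

open Subgroup Cfsg.Agent.Lib.Helper1
open scoped commutatorElement

variable {G : Type*} [Group G]

/-- A `p`-element normalizing a nontrivial `p`-group centralizes a nonidentity element. -/
theorem exists_fixed_of_pgroups [Finite G] {p : ℕ} [Fact p.Prime] {U P : Subgroup G}
    (hU : IsPGroup p U) (hP : IsPGroup p P) (hPU : P ≤ normalizer (U : Set G)) (hne : U ≠ ⊥)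
    {a : G} (ha : a ∈ P) : ∃ u ∈ U, u ≠ 1 ∧ a * u * a⁻¹ = u := by
  by_contra hcon
  push Not at hcon
  have hlt := commutator_lt_of_pgroups hU hP hPU hne
  let c : U → (⁅U, P⁆ : Subgroup G) := fun u => ⟨⁅(u : G), a⁆, commutator_mem_commutator u.2 ha⟩
  have hc : Function.Injective c := by
    intro u u' huu
    have h1 : ⁅(u : G), a⁆ = ⁅(u' : G), a⁆ := congrArg Subtype.val huu
    rw [commutatorElement_def, commutatorElement_def] at h1
    have h2 : (u : G) * a * (u : G)⁻¹ = u' * a * (u' : G)⁻¹ := mul_right_cancel h1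
    by_contra hne'
    have h3 : (u' : G)⁻¹ * u ≠ 1 := by
      intro h
      apply hne'
      rw [inv_mul_eq_one] at h
      exact Subtype.ext h.symm
    apply hcon _ (U.mul_mem (U.inv_mem u'.2) u.2) h3
    calc a * ((u' : G)⁻¹ * u) * a⁻¹
        = (u' : G)⁻¹ * (u' * a * (u' : G)⁻¹) * u * a⁻¹ := by group
      _ = (u' : G)⁻¹ * (u * a * (u : G)⁻¹) * u * a⁻¹ := by rw [h2]
      _ = (u' : G)⁻¹ * u := by group
  have h4 := Nat.card_le_card_of_injective c hc
  have h5 : Nat.card (⁅U, P⁆ : Subgroup G) < Nat.card U := by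
    by_contra h6
    push Not at h6
    exact hlt.ne (eq_of_le_of_card_ge hlt.le h6)
  omega

/-- A fixed-point-free action on an abelian group is coprime. -/
theorem fpf_coprime_abelian [Finite G] {A V : Subgroup G} [IsMulCommutative V]
    (hAV : A ≤ normalizer (V : Set G))
    (hfpf : ∀ a ∈ A, a ≠ 1 → V ⊓ centralizer {a} = ⊥) : (Nat.card A).Coprime (Nat.card V) := by
  open scoped IsMulCommutative in
  apply Nat.coprime_of_dvd
  intro p hp hpA hpV
  have := Fact.mk hp
  obtain ⟨a, ha⟩ := exists_prime_orderOf_dvd_card' p hpA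
  obtain ⟨S⟩ : Nonempty (Sylow p V) := inferInstance
  have hSchar : (S : Subgroup V).Characteristic := S.characteristic_of_normal inferInstance
  have hSne : sylImg S ≠ ⊥ := by
    intro h
    have h1 : Nat.card (sylImg S) = p ^ (Nat.card V).factorization p := by
      rw [card_map_of_injective V.subtype_injective, S.card_eq_multiplicity]
    rw [h, card_bot] at h1
    have h2 := (hp.dvd_iff_one_le_factorization Nat.card_pos.ne').1 hpV
    have h3 : 1 < p ^ (Nat.card V).factorization p := Nat.one_lt_pow (by omega) hp.one_lt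
    omega
  have ha1 : (a : G) ≠ 1 := by
    intro h
    have : a = 1 := Subtype.ext h
    rw [this, orderOf_one] at ha
    exact hp.one_lt.ne ha
  have hzp : IsPGroup p (zpowers (a : G)) := by
    apply IsPGroup.of_card (n := 1)
    rw [Nat.card_zpowers, Subgroup.orderOf_coe, ha, pow_one]
  obtain ⟨u, hu, hu1, hau⟩ := exists_fixed_of_pgroups (sylImg_isPGroup S) hzp
    ((zpowers_le.2 (hAV a.2)).trans (normalizer_le_normalizer_map_char _)) hSne
    (mem_zpowers (a : G))
  have h1 : u ∈ V ⊓ centralizer {(a : G)} := by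
    refine Subgroup.mem_inf.mpr ⟨sylImg_le S hu, ?_⟩
    rw [mem_centralizer_iff]
    intro z hz
    rw [Set.mem_singleton_iff] at hz
    subst hz
    calc (a : G) * u = ((a : G) * u * (a : G)⁻¹) * a := by group
      _ = u * a := by rw [hau]
  rw [hfpf a a.2 ha1, mem_bot] at h1
  exact hu1 h1

/-- A subgroup of prime order `p` in a group of order `p * q` is normal or a Frobenius
complement. -/
theorem normal_of_not_frob {A : Type*} [Group A] [Finite A] {p q : ℕ} (hp : p.Prime)
    (hq : q.Prime) (hA : Nat.card A = p * q) (P : Subgroup A) (hP : Nat.card P = p)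
    (hF : ¬ Cfsg.IsFrobeniusComplement P) : P.Normal := by
  have hPbot : P ≠ ⊥ := by
    intro h
    rw [h, card_bot] at hP
    exact hp.one_lt.ne hP
  have hPtop : P ≠ ⊤ := by
    intro h
    rw [h, card_top, hA] at hP
    have : p * q = p * 1 := by rw [hP, mul_one]
    have := Nat.eq_of_mul_eq_mul_left hp.pos this
    exact hq.one_lt.ne this.symm
  have : ∃ a : A, a ∉ P ∧ P ⊓ MulAut.conj a • P ≠ ⊥ := by
    by_contra hcon
    push Not at hcon
    exact hF ⟨hPbot, hPtop, hcon⟩
  obtain ⟨a, haP, ha⟩ := this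
  have h1 : Nat.card (P ⊓ MulAut.conj a • P : Subgroup A) = p := by
    have h2 : Nat.card (P ⊓ MulAut.conj a • P : Subgroup A) ∣ p := hP ▸ card_dvd_of_le inf_le_left
    rcases (Nat.dvd_prime hp).1 h2 with h3 | h3
    · exact absurd (card_eq_one.1 h3) ha
    · exact h3
  have h2 : P ⊓ MulAut.conj a • P = P := eq_of_le_of_card_ge inf_le_left (by rw [h1, hP])
  have h3 : P = MulAut.conj a • P :=
    eq_of_le_of_card_ge (inf_eq_left.1 h2) (by rw [card_conj_smul])
  have h4 : a ∈ normalizer (P : Set A) := conj_smul_eq_self_iff.1 h3.symm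
  rw [← normalizer_eq_top_iff]
  obtain ⟨k, hk⟩ := card_dvd_of_le (le_normalizer (H := P))
  have h5 : Nat.card (normalizer (P : Set A)) ∣ p * q := hA ▸ card_subgroup_dvd_card _
  rw [hk, hP] at h5
  have h6 : k ∣ q := Nat.dvd_of_mul_dvd_mul_left hp.pos h5
  rcases (Nat.dvd_prime hq).1 h6 with h7 | h7
  · exfalso
    rw [h7, mul_one] at hk
    have h8 : P = normalizer (P : Set A) := eq_of_le_of_card_ge le_normalizer hk.le
    exact haP (h8 ▸ h4)
  · apply eq_top_of_card_eq
    rw [hk, hP, h7, hA]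

/-- A group of order `p * q` without Frobenius complements is cyclic. -/
theorem isCyclic_of_card_mul_of_no_frob {A : Type*} [Group A] [Finite A] {p q : ℕ} (hp : p.Prime)
    (hq : q.Prime) (hpq : p ≠ q) (hA : Nat.card A = p * q)
    (hF : ∀ P : Subgroup A, ¬ Cfsg.IsFrobeniusComplement P) : IsCyclic A := by
  have := Fact.mk hp
  have := Fact.mk hq
  obtain ⟨x, hx⟩ := exists_prime_orderOf_dvd_card' (G := A) p (hA ▸ Dvd.intro _ rfl)
  obtain ⟨y, hy⟩ := exists_prime_orderOf_dvd_card' (G := A) q (hA ▸ Dvd.intro_left _ rfl)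
  have hPn : (zpowers x).Normal :=
    normal_of_not_frob hp hq hA _ (by rw [Nat.card_zpowers, hx]) (hF _)
  have hQn : (zpowers y).Normal :=
    normal_of_not_frob hq hp (by rw [hA, mul_comm]) _ (by rw [Nat.card_zpowers, hy]) (hF _)
  have hcop : p.Coprime q := (Nat.coprime_primes hp hq).2 hpq
  have hdisj : Disjoint (zpowers x) (zpowers y) := by
    apply disjoint_of_coprime_natCard
    rw [Nat.card_zpowers, Nat.card_zpowers, hx, hy]
    exact hcop
  have hcomm := commute_of_normal_of_disjoint _ _ hPn hQn hdisj x y (mem_zpowers x) (mem_zpowers y)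
  apply isCyclic_of_orderOf_eq_card (x * y)
  rw [hcomm.orderOf_mul_eq_mul_orderOf_of_coprime (by rw [hx, hy]; exact hcop), hx, hy, hA]

end Cfsg.Agent.Lib.Lead
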