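import Mathlib
import Cfsg.Prelude.Def_Blocks
import Cfsg.Agent.Lib.Helper6.BrauerHom
import Cfsg.Agent.Lib.Helper24.CharInt
import Cfsg.Agent.Lib.Helper24.DefectZero
import Cfsg.Agent.Lib.Helper2.BrauerPerm

/-!
# Glauberman correspondence for `p`-groups of operators: fixed point lemmas
-/

set_option autoImplicit false

namespace Cfsg.Agent.Lib.Lead.Glaub

open Cfsg Cfsg.Agent.Lib.Helper2 Cfsg.Agent.Lib.Helper6
open scoped ComplexConjugate Classical

attribute [local instance] irrFintype

/-- A `p`-group `P` acts on the `p'`-group `G`; `ι` embeds the fixed points. -/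
structure Setup {G C P : Type*} [Group G] [Group C] [Group P] (p : ℕ)
    (φ : P →* MulAut G) (ι : C →* G) : Prop where
  inj : Function.Injective ι
  fix : ∀ g, (∀ s, φ s g = g) ↔ g ∈ ι.range
  pgrp : IsPGroup p P
  cop : ¬ p ∣ Nat.card G

variable {G C P : Type*} [Group G] [Group C] [Group P] {p : ℕ}
  {φ : P →* MulAut G} {ι : C →* G}

theorem Setup.fixed (h : Setup p φ ι) (s : P) (c : C) : φ s (ι c) = ι c :=
  (h.fix (ι c)).mpr ⟨c, rfl⟩ s

/-- the permutation action on `G`. -/
def permG (φ : P →* MulAut G) : P →* Equiv.Perm G := (MulAut.toPerm G).comp φ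

theorem permG_apply (s : P) (g : G) : permG φ s g = φ s g := rfl

/-- integer valued invariant sums -/
theorem card_filter_modEq [Fintype G] [Fact p.Prime] (h : Setup p φ ι) (X : G → Prop)
    (hX : ∀ s g, X (φ s g) ↔ X g) (hne : ∀ c, ¬ X (ι c)) :
    p ∣ (Finset.univ.filter X).card := by
  obtain ⟨s, ⟨z, hz⟩, hsum⟩ := sum_eq_sum_fixed_add h.pgrp (permG φ)
    (fun g => if X g then (1 : ℂ) else 0) (by
      intro k w
      simp only [permG_apply]
      exact if_congr (hX k w) rfl rfl) (Int.castAddHom ℂ).range (by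
      intro w
      split_ifs
      · exact ⟨1, by simp⟩
      · exact ⟨0, by simp⟩)
  have h0 : ∑ w, (if ∀ k, permG φ k w = w then (if X w then (1 : ℂ) else 0) else 0) = 0 := by
    refine Finset.sum_eq_zero fun w _ => ?_
    by_cases hw : ∀ k, permG φ k w = w
    · obtain ⟨c, rfl⟩ := (h.fix w).mp hw
      rw [if_pos hw, if_neg (hne c)]
    · rw [if_neg hw]
  rw [h0, zero_add, ← hz, Finset.sum_boole] at hsum
  have h1 : (((Finset.univ.filter X).card : ℤ) : ℂ) = ((p * z : ℤ) : ℂ) := by
    push_cast
    simpa using hsum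
  have h2 : ((Finset.univ.filter X).card : ℤ) = p * z := by exact_mod_cast h1
  exact Int.natCast_dvd_natCast.mp ⟨z, h2⟩

/-- fusion of fixed points is controlled by the fixed points. -/
theorem Setup.fusion [Finite G] (h : Setup p φ ι) (hp : p.Prime) {c c' : C} {g : G}
    (hg : ι c' = g * ι c * g⁻¹) : ∃ d : C, c' = d * c * d⁻¹ := by
  cases nonempty_fintype G
  haveI : Fact p.Prime := ⟨hp⟩
  by_contra hcon
  push Not at hcon
  have h1 := card_filter_modEq h (fun x => x * ι c * x⁻¹ = ι c') (by
    intro s x
    constructor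
    · intro hx
      apply (φ s).injective
      rw [map_mul, map_mul, map_inv, h.fixed, h.fixed]
      exact hx
    · intro hx
      have := congrArg (φ s) hx
      rwa [map_mul, map_mul, map_inv, h.fixed, h.fixed] at this) (by
    intro d hd
    apply hcon d
    apply h.inj
    rw [map_mul, map_mul, map_inv]
    exact hd.symm)
  apply h.cop
  refine h1.trans ?_
  have h2 : (Finset.univ.filter (fun x => x * ι c * x⁻¹ = ι c')).card =
      Nat.card (Subgroup.centralizer ({ι c} : Set G)) := by
    rw [Nat.card_eq_fintype_card, Fintype.card_subtype]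
    apply Finset.card_bij (fun x _ => g⁻¹ * x)
    · intro x hx
      simp only [Finset.mem_filter, Finset.mem_univ, true_and] at hx ⊢
      rw [Subgroup.mem_centralizer_singleton_iff]
      rw [hg] at hx
      calc g⁻¹ * x * ι c = g⁻¹ * (x * ι c * x⁻¹) * x := by group
        _ = g⁻¹ * (g * ι c * g⁻¹) * x := by rw [hx]
        _ = _ := by group
    · intro x _ y _ hxy
      exact mul_left_cancel hxy
    · intro y hy
      simp only [Finset.mem_filter, Finset.mem_univ, true_and] at hy
      rw [Subgroup.mem_centralizer_singleton_iff] at hy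
      refine ⟨g * y, ?_, by group⟩
      simp only [Finset.mem_filter, Finset.mem_univ, true_and]
      rw [hg]
      calc g * y * ι c * (g * y)⁻¹ = g * (y * ι c) * y⁻¹ * g⁻¹ := by group
        _ = g * (ι c * y) * y⁻¹ * g⁻¹ := by rw [hy]
        _ = _ := by group
  rw [h2]
  exact Subgroup.card_subgroup_dvd_card _

end Cfsg.Agent.Lib.Lead.Glaub
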