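import Mathlib
import Cfsg.Agent.Lib.Lead.GlaubA

/-!
# Glauberman correspondence for `p`-groups of operators: the Brauer map
-/

set_option autoImplicit false

namespace Cfsg.Agent.Lib.Lead.Glaub

open Cfsg Cfsg.Agent.Lib.Helper2 Cfsg.Agent.Lib.Helper6 Cfsg.Agent.Lib.Helper24
open scoped ComplexConjugate Classical

attribute [local instance] irrFintype

variable {G C P : Type*} [Group G] [Group C] [Group P] {p : ℕ}
  {φ : P →* MulAut G} {ι : C →* G}

/-- invariant functions -/
def Inv (φ : P →* MulAut G) (F : G → ℂ) : Prop := ∀ s g, F (φ s g) = F g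

/-- extension of a class function of the fixed points to an invariant class function -/
noncomputable def ext (ι : C →* G) (F' : C → ℂ) : G → ℂ :=
  fun g => if h : ∃ c, IsConj (ι c) g then F' h.choose else 0

theorem ext_of_isConj [Finite G] (h : Setup p φ ι) (hp : p.Prime) {F' : C → ℂ}
    (hF' : IsClassFunction C F') {c : C} {g : G} (hc : IsConj (ι c) g) : ext ι F' g = F' c := by
  have hex : ∃ c, IsConj (ι c) g := ⟨c, hc⟩
  rw [ext, dif_pos hex]
  have h1 : IsConj (ι c) (ι hex.choose) := hc.trans hex.choose_spec.symm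
  obtain ⟨x, hx⟩ := isConj_iff.mp h1
  obtain ⟨d, hd⟩ := h.fusion hp hx.symm
  rw [hd, hF']

theorem ext_of_not {F' : C → ℂ} {g : G} (hc : ¬ ∃ c, IsConj (ι c) g) : ext ι F' g = 0 := by
  rw [ext, dif_neg hc]

theorem ext_comp [Finite G] (h : Setup p φ ι) (hp : p.Prime) {F' : C → ℂ}
    (hF' : IsClassFunction C F') : ext ι F' ∘ ι = F' := by
  ext c
  exact ext_of_isConj h hp hF' (IsConj.refl _)

theorem isClassFunction_ext [Finite G] (h : Setup p φ ι) (hp : p.Prime) {F' : C → ℂ}
    (hF' : IsClassFunction C F') : IsClassFunction G (ext ι F') := by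
  intro g x
  by_cases hc : ∃ c, IsConj (ι c) g
  · obtain ⟨c, hc⟩ := hc
    rw [ext_of_isConj h hp hF' hc, ext_of_isConj h hp hF' (hc.trans (isConj_iff.mpr ⟨x, rfl⟩))]
  · rw [ext_of_not hc, ext_of_not]
    rintro ⟨c, hc'⟩
    exact hc ⟨c, hc'.trans (isConj_iff.mpr ⟨x, rfl⟩).symm⟩

theorem isConj_map_iff (h : Setup p φ ι) (s : P) (c : C) (g : G) :
    IsConj (ι c) (φ s g) ↔ IsConj (ι c) g := by
  constructor
  · intro hc
    obtain ⟨x, hx⟩ := isConj_iff.mp hc
    refine isConj_iff.mpr ⟨(φ s)⁻¹ x, ?_⟩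
    apply (φ s).injective
    rw [map_mul, map_mul, map_inv, h.fixed, MulAut.apply_inv_self]
    exact hx
  · intro hc
    obtain ⟨x, hx⟩ := isConj_iff.mp hc
    refine isConj_iff.mpr ⟨φ s x, ?_⟩
    rw [← hx, map_mul, map_mul, map_inv, h.fixed]

theorem inv_ext [Finite G] (h : Setup p φ ι) (hp : p.Prime) {F' : C → ℂ}
    (hF' : IsClassFunction C F') : Inv φ (ext ι F') := by
  intro s g
  by_cases hc : ∃ c, IsConj (ι c) g
  · obtain ⟨c, hc⟩ := hc
    rw [ext_of_isConj h hp hF' hc, ext_of_isConj h hp hF' ((isConj_map_iff h s c g).mpr hc)]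
  · rw [ext_of_not hc, ext_of_not]
    rintro ⟨c, hc'⟩
    exact hc ⟨c, (isConj_map_iff h s c g).mp hc'⟩

theorem memLocalRing_ext {M : Ideal AlgInt} [M.IsPrime] {F' : C → ℂ}
    (hF' : ∀ c, MemLocalRing M (F' c)) (g : G) : MemLocalRing M (ext ι F' g) := by
  rw [ext]
  split_ifs
  · exact hF' _
  · exact memLocalRing_zero

theorem isClassFunction_comp {F : G → ℂ} (hF : IsClassFunction G F) (ι : C →* G) :
    IsClassFunction C (F ∘ ι) := by
  intro c d
  simp only [Function.comp_apply, map_mul, map_inv]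
  exact hF _ _

variable [Fintype G] [Fintype C] {M : Ideal AlgInt}

/-- the restriction to the fixed points is multiplicative modulo `p` on invariant functions -/
theorem conv_comp (hM : IsPModular p M) (h : Setup p φ ι) {F₁ F₂ : G → ℂ} (h₁ : Inv φ F₁)
    (h₂ : Inv φ F₂) (hS₁ : ∀ g, MemLocalRing M (F₁ g)) (hS₂ : ∀ g, MemLocalRing M (F₂ g)) (c : C) :
    MemLocalIdeal M (conv F₁ F₂ (ι c) - conv (F₁ ∘ ι) (F₂ ∘ ι) c) := by
  have := IsPModular.isPrime hM
  have : Fact p.Prime := ⟨hM.1⟩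
  obtain ⟨s, hs, hsum⟩ := sum_eq_sum_fixed_add h.pgrp (permG φ)
    (fun x => F₁ x * F₂ (x⁻¹ * ι c)) (by
      intro u x
      simp only [permG_apply]
      rw [h₁ u x]
      congr 1
      rw [← h₂ u (x⁻¹ * ι c), map_mul, map_inv, h.fixed]) (localSubring M).toAddSubgroup
    (fun x => MemLocalRing.mul (hS₁ x) (hS₂ _))
  have h3 : conv (F₁ ∘ ι) (F₂ ∘ ι) c = ∑ w, (if ∀ k, permG φ k w = w then
      F₁ w * F₂ (w⁻¹ * ι c) else 0) := by
    rw [conv_apply]
    apply Fintype.sum_of_injective ι h.inj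
    · intro x hx
      rw [if_neg]
      intro hxc
      exact hx ((h.fix x).mp hxc)
    · intro x
      rw [if_pos (show ∀ k, permG φ k (ι x) = ι x from fun k => h.fixed k x)]
      simp only [Function.comp_apply, map_mul, map_inv]
  rw [conv_apply, hsum, h3, add_sub_cancel_left]
  exact MemLocalIdeal.mul_right (memLocalIdeal_p hM) hs

theorem lam_mul (hM : IsPModular p M) (h : Setup p φ ι) {β : C → ℂ} (hβ : IsIrrCharacter C β)
    {F₁ F₂ : G → ℂ} (h₁ : Inv φ F₁) (h₂ : Inv φ F₂) (hc₁ : IsClassFunction G F₁)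
    (hc₂ : IsClassFunction G F₂) (hS₁ : ∀ g, MemLocalRing M (F₁ g))
    (hS₂ : ∀ g, MemLocalRing M (F₂ g)) :
    MemLocalIdeal M (om β (conv F₁ F₂ ∘ ι) - om β (F₁ ∘ ι) * om β (F₂ ∘ ι)) := by
  have := IsPModular.isPrime hM
  rw [← om_conv hβ (isClassFunction_comp hc₁ ι) (isClassFunction_comp hc₂ ι), ← om_sub]
  apply om_memLocalIdeal hβ
  · exact isClassFunction_sub (isClassFunction_comp (isClassFunction_conv hc₁ hc₂) ι)
      (isClassFunction_conv (isClassFunction_comp hc₁ ι) (isClassFunction_comp hc₂ ι))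
  · intro c
    exact conv_comp hM h h₁ h₂ hS₁ hS₂ c

/-- the action on irreducible characters -/
noncomputable def permIrr (φ : P →* MulAut G) : P →* Equiv.Perm (IrrCharacter G) where
  toFun s :=
    { toFun := fun χ => ⟨(χ : G → ℂ) ∘ (φ s⁻¹), IsIrrCharacter.comp_mulEquiv χ.2 _⟩
      invFun := fun χ => ⟨(χ : G → ℂ) ∘ (φ s), IsIrrCharacter.comp_mulEquiv χ.2 _⟩
      left_inv := by
        intro χ
        apply Subtype.ext
        funext g
        simp only [Function.comp_apply, map_inv, MulAut.inv_apply_self]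
      right_inv := by
        intro χ
        apply Subtype.ext
        funext g
        simp only [Function.comp_apply, map_inv, MulAut.apply_inv_self] }
  map_one' := by
    ext χ g
    simp
  map_mul' := by
    intro s t
    ext χ g
    simp [mul_inv_rev]

theorem permIrr_apply (s : P) (χ : IrrCharacter G) (g : G) :
    (permIrr φ s χ : G → ℂ) g = (χ : G → ℂ) (φ s⁻¹ g) := rfl

theorem permIrr_fixed_iff (χ : IrrCharacter G) :
    (∀ s, permIrr φ s χ = χ) ↔ Inv φ (χ : G → ℂ) := by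
  constructor
  · intro h s g
    have := congrArg (fun ψ : IrrCharacter G => (ψ : G → ℂ) g) (h s⁻¹)
    simp only [permIrr_apply, inv_inv] at this
    exact this
  · intro h s
    apply Subtype.ext
    funext g
    rw [permIrr_apply, h]

theorem sum_irr_congr (hM : IsPModular p M) (h : Setup p φ ι) (W : IrrCharacter G → ℂ)
    (hW : ∀ s χ, W (permIrr φ s χ) = W χ) (hS : ∀ χ, MemLocalRing M (W χ)) :
    MemLocalIdeal M (∑ χ, W χ - ∑ χ : IrrCharacter G, (if Inv φ (χ : G → ℂ) then W χ else 0)) := by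
  have := IsPModular.isPrime hM
  have : Fact p.Prime := ⟨hM.1⟩
  obtain ⟨s, hs, hsum⟩ := sum_eq_sum_fixed_add h.pgrp (permIrr φ) W hW
    (localSubring M).toAddSubgroup hS
  have h3 : ∑ χ : IrrCharacter G, (if Inv φ (χ : G → ℂ) then W χ else 0) =
      ∑ w, (if ∀ k, permIrr φ k w = w then W w else 0) :=
    Finset.sum_congr rfl fun χ _ => if_congr (permIrr_fixed_iff χ).symm rfl rfl
  rw [hsum, h3, add_sub_cancel_left]
  exact MemLocalIdeal.mul_right (memLocalIdeal_p hM) hs

end Cfsg.Agent.Lib.Lead.Glaub
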