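import Mathlib
import Cfsg.Agent.Lib.Lead.GlaubB

/-!
# Glauberman correspondence for `p`-groups of operators: the coefficients
-/

set_option autoImplicit false

namespace Cfsg.Agent.Lib.Lead.Glaub

open Cfsg Cfsg.Agent.Lib.Helper2 Cfsg.Agent.Lib.Helper6 Cfsg.Agent.Lib.Helper24
open scoped ComplexConjugate Classical

attribute [local instance] irrFintype

variable {G C P : Type*} [Group G] [Group C] [Group P] {p : ℕ}
  {φ : P →* MulAut G} {ι : C →* G} [Fintype G] [Fintype C] {M : Ideal AlgInt}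

/-- the value of the central character of `β` on the Brauer image of the idempotent of `χ` -/
noncomputable def aa (ι : C →* G) (χ : G → ℂ) (β : C → ℂ) : ℂ :=
  (Nat.card G : ℂ)⁻¹ * χ 1 * (∑ c, conj (χ (ι c)) * β c) / β 1

theorem om_coef_comp (a : IrrCharacter G → ℂ) (β : C → ℂ) :
    om β (coef a ∘ ι) = ∑ χ : IrrCharacter G, a χ * aa ι (χ : G → ℂ) β := by
  simp only [om, aa, coef, Function.comp_apply, Finset.mul_sum, Finset.sum_mul, Finset.sum_div]
  rw [Finset.sum_comm]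
  refine Finset.sum_congr rfl fun _ _ => Finset.sum_congr rfl fun _ _ => by ring

theorem e_apply (χ : IrrCharacter G) (g : G) : coef (Pi.single χ 1) g =
    (Nat.card G : ℂ)⁻¹ * ((χ : G → ℂ) 1 * conj ((χ : G → ℂ) g)) := by
  rw [coef_apply, Finset.sum_eq_single χ]
  · simp
  · intro ψ _ hne
    simp [Pi.single_eq_of_ne hne]
  · intro h
    exact absurd (Finset.mem_univ _) h

theorem aa_eq_om (χ : IrrCharacter G) (β : C → ℂ) :
    aa ι (χ : G → ℂ) β = om β (coef (Pi.single χ 1) ∘ ι) := by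
  rw [om_coef_comp, Finset.sum_eq_single χ]
  · simp
  · intro ψ _ hne
    simp [Pi.single_eq_of_ne hne]
  · intro h
    exact absurd (Finset.mem_univ _) h

theorem memLocalRing_e (hM : IsPModular p M) (hcop : ¬ p ∣ Nat.card G) (χ : IrrCharacter G)
    (g : G) : MemLocalRing M (coef (Pi.single χ 1) g) := by
  have := IsPModular.isPrime hM
  rw [e_apply]
  refine MemLocalRing.mul (memLocalRing_inv_natCast hM hcop) (MemLocalRing.mul ?_ ?_)
  · exact memLocalRing_of_isIntegral (char_isIntegral (IsIrrCharacter.isCharacter χ.2) 1)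
  · exact memLocalRing_of_isIntegral
      (char_isIntegral (IsCharacter.conj (IsIrrCharacter.isCharacter χ.2)) g)

theorem inv_e {χ : IrrCharacter G} (hχ : Inv φ (χ : G → ℂ)) : Inv φ (coef (Pi.single χ 1)) := by
  intro s g
  rw [e_apply, e_apply, hχ]

theorem aa_mem (hM : IsPModular p M) (hcop : ¬ p ∣ Nat.card G) (χ : IrrCharacter G) {β : C → ℂ}
    (hβ : IsIrrCharacter C β) : MemLocalRing M (aa ι (χ : G → ℂ) β) := by
  have := IsPModular.isPrime hM
  rw [aa_eq_om]
  exact om_memLocalRing hβ (isClassFunction_comp (isClassFunction_coef _) ι)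
    (fun c => memLocalRing_e hM hcop χ _)

theorem aa_mul (hM : IsPModular p M) (h : Setup p φ ι) {χ χ' : IrrCharacter G}
    (hχ : Inv φ (χ : G → ℂ)) (hχ' : Inv φ (χ' : G → ℂ)) {β : C → ℂ} (hβ : IsIrrCharacter C β) :
    MemLocalIdeal M ((if χ = χ' then aa ι (χ : G → ℂ) β else 0) -
      aa ι (χ : G → ℂ) β * aa ι (χ' : G → ℂ) β) := by
  have h1 := lam_mul hM h hβ (inv_e hχ) (inv_e hχ') (isClassFunction_coef _)
    (isClassFunction_coef _) (memLocalRing_e hM h.cop χ) (memLocalRing_e hM h.cop χ')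
  rw [← coef_mul, ← aa_eq_om, ← aa_eq_om] at h1
  convert h1 using 2
  by_cases he : χ = χ'
  · subst he
    rw [if_pos rfl, aa_eq_om]
    congr 3
    ext ψ
    by_cases hψ : ψ = χ
    · subst hψ; simp
    · simp [Pi.single_eq_of_ne hψ]
  · rw [if_neg he]
    have : (Pi.single χ 1 * Pi.single χ' 1 : IrrCharacter G → ℂ) = 0 := by
      ext ψ
      by_cases hψ : ψ = χ
      · subst hψ; simp [Pi.single_eq_of_ne he]
      · simp [Pi.single_eq_of_ne hψ]
    rw [this, coef_zero]
    simp [om]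

theorem sum_aa (h : Setup p φ ι) {β : C → ℂ} (hβ : IsIrrCharacter C β) :
    ∑ χ : IrrCharacter G, aa ι (χ : G → ℂ) β = 1 := by
  have h1 := om_coef_comp (ι := ι) (1 : IrrCharacter G → ℂ) β
  simp only [Pi.one_apply, one_mul] at h1
  rw [← h1, coef_one']
  have : (delta : G → ℂ) ∘ ι = delta := by
    ext c
    simp only [Function.comp_apply, delta_apply]
    refine if_congr ?_ rfl rfl
    rw [← map_one ι]
    exact h.inj.eq_iff
  rw [this, om_delta hβ]

theorem aa_perm (h : Setup p φ ι) (s : P) (χ : IrrCharacter G) (β : C → ℂ) :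
    aa ι (permIrr φ s χ : G → ℂ) β = aa ι (χ : G → ℂ) β := by
  simp only [aa, permIrr_apply, h.fixed, map_one]

theorem om_perm {F : G → ℂ} (hF : Inv φ F) (s : P) (χ : IrrCharacter G) :
    om (permIrr φ s χ : G → ℂ) F = om (χ : G → ℂ) F := by
  simp only [om, permIrr_apply, map_one]
  congr 1
  refine Fintype.sum_equiv (φ s⁻¹).toEquiv _ _ fun g => ?_
  simp only [MulEquiv.toEquiv_eq_coe, MulEquiv.coe_toEquiv]
  rw [hF]

theorem lam_congr (hM : IsPModular p M) (h : Setup p φ ι) {β : C → ℂ} (hβ : IsIrrCharacter C β)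
    {F : G → ℂ} (hF : Inv φ F) (hc : IsClassFunction G F) (hS : ∀ g, MemLocalRing M (F g)) :
    MemLocalIdeal M (om β (F ∘ ι) - ∑ χ : IrrCharacter G,
      (if Inv φ (χ : G → ℂ) then om (χ : G → ℂ) F * aa ι (χ : G → ℂ) β else 0)) := by
  have := IsPModular.isPrime hM
  have h1 : om β (F ∘ ι) = ∑ χ : IrrCharacter G, om (χ : G → ℂ) F * aa ι (χ : G → ℂ) β := by
    conv_lhs => rw [eq_coef_om hc]
    rw [om_coef_comp]
  rw [h1]
  apply sum_irr_congr hM h (fun χ => om (χ : G → ℂ) F * aa ι (χ : G → ℂ) β)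
  · intro s χ
    rw [om_perm hF, aa_perm h]
  · intro χ
    exact MemLocalRing.mul (om_memLocalRing χ.2 hc hS) (aa_mem hM h.cop χ hβ)

theorem exists_inv (hM : IsPModular p M) (h : Setup p φ ι) {β : C → ℂ} (hβ : IsIrrCharacter C β) :
    ∃ χ : IrrCharacter G, Inv φ (χ : G → ℂ) ∧ ¬ MemLocalIdeal M (aa ι (χ : G → ℂ) β) := by
  have := IsPModular.isPrime hM
  by_contra hcon
  push Not at hcon
  have h1 := sum_irr_congr hM h (fun χ => aa ι (χ : G → ℂ) β) (fun s χ => aa_perm h s χ β)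
    (fun χ => aa_mem hM h.cop χ hβ)
  rw [sum_aa h hβ] at h1
  have h2 : MemLocalIdeal M (∑ χ : IrrCharacter G,
      (if Inv φ (χ : G → ℂ) then aa ι (χ : G → ℂ) β else 0)) := by
    refine MemLocalIdeal.sum _ fun χ _ => ?_
    split_ifs with hχ
    · exact hcon χ hχ
    · exact memLocalIdeal_zero
  exact not_memLocalIdeal_one ((memLocalIdeal_congr h1).mpr h2)

theorem aa_unique (hM : IsPModular p M) (h : Setup p φ ι) {χ χ' : IrrCharacter G}
    (hχ : Inv φ (χ : G → ℂ)) (hχ' : Inv φ (χ' : G → ℂ)) {β : C → ℂ} (hβ : IsIrrCharacter C β)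
    (h1 : ¬ MemLocalIdeal M (aa ι (χ : G → ℂ) β)) (h2 : ¬ MemLocalIdeal M (aa ι (χ' : G → ℂ) β)) :
    χ = χ' := by
  have := IsPModular.isPrime hM
  by_contra hne
  have h3 := aa_mul hM h hχ hχ' hβ
  rw [if_neg hne, zero_sub] at h3
  have h4 := MemLocalIdeal.neg h3
  rw [neg_neg] at h4
  exact (MemLocalIdeal.of_mul (aa_mem hM h.cop χ hβ) (aa_mem hM h.cop χ' hβ) h4).elim h1 h2

theorem aa_sub_one (hM : IsPModular p M) (h : Setup p φ ι) {χ : IrrCharacter G}
    (hχ : Inv φ (χ : G → ℂ)) {β : C → ℂ} (hβ : IsIrrCharacter C β)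
    (h1 : ¬ MemLocalIdeal M (aa ι (χ : G → ℂ) β)) :
    MemLocalIdeal M (aa ι (χ : G → ℂ) β - 1) := by
  have := IsPModular.isPrime hM
  have h3 := aa_mul hM h hχ hχ hβ
  rw [if_pos rfl] at h3
  have h4 : MemLocalIdeal M (aa ι (χ : G → ℂ) β * (aa ι (χ : G → ℂ) β - 1)) := by
    have := MemLocalIdeal.neg h3
    convert this using 1
    ring
  exact (MemLocalIdeal.of_mul (aa_mem hM h.cop χ hβ)
    (MemLocalRing.sub (aa_mem hM h.cop χ hβ) memLocalRing_one) h4).elim (fun h => absurd h h1) id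

theorem lam_eq (hM : IsPModular p M) (h : Setup p φ ι) {χ : IrrCharacter G}
    (hχ : Inv φ (χ : G → ℂ)) {β : C → ℂ} (hβ : IsIrrCharacter C β)
    (h1 : ¬ MemLocalIdeal M (aa ι (χ : G → ℂ) β))
    {F : G → ℂ} (hF : Inv φ F) (hc : IsClassFunction G F) (hS : ∀ g, MemLocalRing M (F g)) :
    MemLocalIdeal M (om β (F ∘ ι) - om (χ : G → ℂ) F) := by
  have := IsPModular.isPrime hM
  have h2 := lam_congr hM h hβ hF hc hS
  have h3 : MemLocalIdeal M (∑ ψ : IrrCharacter G,
      (if Inv φ (ψ : G → ℂ) then om (ψ : G → ℂ) F * aa ι (ψ : G → ℂ) β else 0) -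
        om (χ : G → ℂ) F) := by
    have h4 : om (χ : G → ℂ) F = ∑ ψ : IrrCharacter G, (if ψ = χ then om (χ : G → ℂ) F else 0) := by
      rw [Finset.sum_ite_eq' Finset.univ χ, if_pos (Finset.mem_univ _)]
    rw [h4, ← Finset.sum_sub_distrib]
    refine MemLocalIdeal.sum _ fun ψ _ => ?_
    by_cases hψ : ψ = χ
    · subst hψ
      rw [if_pos hχ, if_pos rfl]
      have := MemLocalIdeal.mul_left (om_memLocalRing ψ.2 hc hS) (aa_sub_one hM h hχ hβ h1)
      convert this using 1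
      ring
    · rw [if_neg hψ, sub_zero]
      split_ifs with hi
      · refine MemLocalIdeal.mul_left (om_memLocalRing ψ.2 hc hS) ?_
        by_contra hcon
        exact hψ (aa_unique hM h hi hχ hβ hcon h1)
      · exact memLocalIdeal_zero
  have := MemLocalIdeal.add h2 h3
  convert this using 1
  ring

theorem not_dvd_card_C (h : Setup p φ ι) : ¬ p ∣ Nat.card C := fun hd =>
  h.cop (hd.trans (Subgroup.card_dvd_of_injective ι h.inj))

theorem beta_unique (hM : IsPModular p M) (h : Setup p φ ι) {χ : IrrCharacter G}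
    (hχ : Inv φ (χ : G → ℂ)) {β β' : IrrCharacter C}
    (h1 : ¬ MemLocalIdeal M (aa ι (χ : G → ℂ) (β : C → ℂ)))
    (h2 : ¬ MemLocalIdeal M (aa ι (χ : G → ℂ) (β' : C → ℂ))) : β = β' := by
  have := IsPModular.isPrime hM
  by_contra hne
  set F' : C → ℂ := coef (Pi.single β 1) with hF'
  have hc' : IsClassFunction C F' := isClassFunction_coef _
  have hS' : ∀ c, MemLocalRing M (F' c) := memLocalRing_e hM (not_dvd_card_C h) β
  have e1 := lam_eq hM h hχ β.2 h1 (inv_ext h hM.1 hc') (isClassFunction_ext h hM.1 hc')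
    (memLocalRing_ext hS')
  have e2 := lam_eq hM h hχ β'.2 h2 (inv_ext h hM.1 hc') (isClassFunction_ext h hM.1 hc')
    (memLocalRing_ext hS')
  rw [ext_comp h hM.1 hc', hF', om_coef] at e1 e2
  rw [Pi.single_eq_same] at e1
  rw [Pi.single_eq_of_ne (Ne.symm hne)] at e2
  have := MemLocalIdeal.sub e1 e2
  apply not_memLocalIdeal_one (M := M)
  convert this using 1
  ring

end Cfsg.Agent.Lib.Lead.Glaub
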