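import Mathlib
import Cfsg.Agent.Lib.Lead.GlaubC

/-!
# Glauberman correspondence for `p`-groups of operators: multiplicities
-/

set_option autoImplicit false

namespace Cfsg.Agent.Lib.Lead.Glaub

open Cfsg Cfsg.Agent.Lib.Helper2 Cfsg.Agent.Lib.Helper6 Cfsg.Agent.Lib.Helper24
open scoped ComplexConjugate Classical

attribute [local instance] irrFintype

variable {G C P : Type*} [Group G] [Group C] [Group P] {p : ℕ}
  {φ : P →* MulAut G} {ι : C →* G} [Fintype G] [Fintype C] {M : Ideal AlgInt}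

theorem aa_mul_eq (χ : IrrCharacter G) (β : IrrCharacter C) {m : ℕ}
    (hm : classInner ((χ : G → ℂ) ∘ ι) (β : C → ℂ) = m) :
    aa ι (χ : G → ℂ) (β : C → ℂ) * ((Nat.card G * charDegree (β : C → ℂ) : ℕ) : ℂ) =
      ((charDegree (χ : G → ℂ) * Nat.card C * m : ℕ) : ℂ) := by
  have h1 : ∑ c, conj ((χ : G → ℂ) (ι c)) * (β : C → ℂ) c = (Nat.card C : ℂ) * m := by
    have h2 := congrArg conj hm
    rw [classInner, map_mul, map_sum, map_inv₀, Complex.conj_natCast, Complex.conj_natCast] at h2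
    have h3 : (Nat.card C : ℂ) ≠ 0 := card_ne_zero_complex
    rw [inv_mul_eq_iff_eq_mul₀ h3] at h2
    rw [← h2]
    refine Finset.sum_congr rfl fun c _ => ?_
    simp
  have hG : (Nat.card G : ℂ) ≠ 0 := card_ne_zero_complex
  have hβ : (β : C → ℂ) 1 ≠ 0 := irr_one_ne_zero β.2
  push_cast
  rw [aa, h1, charDegree_cast (IsIrrCharacter.isCharacter β.2),
    charDegree_cast (IsIrrCharacter.isCharacter χ.2)]
  field_simp

theorem not_dvd_degree {H : Type*} [Group H] [Finite H] (hH : ¬ p ∣ Nat.card H)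
    (χ : IrrCharacter H) : ¬ p ∣ charDegree (χ : H → ℂ) :=
  fun hd => hH (hd.trans (degree_dvd_card χ.2))

theorem aa_mem_iff (hM : IsPModular p M) (h : Setup p φ ι) (χ : IrrCharacter G)
    (β : IrrCharacter C) {m : ℕ} (hm : classInner ((χ : G → ℂ) ∘ ι) (β : C → ℂ) = m) :
    MemLocalIdeal M (aa ι (χ : G → ℂ) (β : C → ℂ)) ↔ p ∣ m := by
  have := IsPModular.isPrime hM
  have hp := hM.1
  have e := aa_mul_eq χ β hm
  constructor
  · intro ha
    have h1 := MemLocalIdeal.mul_right ha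
      (memLocalRing_natCast (M := M) (Nat.card G * charDegree (β : C → ℂ)))
    rw [e, memLocalIdeal_natCast_iff hM] at h1
    rcases (Nat.Prime.dvd_mul hp).mp h1 with h2 | h2
    · rcases (Nat.Prime.dvd_mul hp).mp h2 with h3 | h3
      · exact absurd h3 (not_dvd_degree h.cop χ)
      · exact absurd h3 (not_dvd_card_C h)
    · exact h2
  · intro hd
    have h1 : MemLocalIdeal M
        (aa ι (χ : G → ℂ) (β : C → ℂ) * ((Nat.card G * charDegree (β : C → ℂ) : ℕ) : ℂ)) := by
      rw [e, memLocalIdeal_natCast_iff hM]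
      exact Dvd.dvd.mul_left hd _
    rcases MemLocalIdeal.of_mul (aa_mem hM h.cop χ β.2) (memLocalRing_natCast _) h1 with h2 | h2
    · exact h2
    · rw [memLocalIdeal_natCast_iff hM] at h2
      rcases (Nat.Prime.dvd_mul hp).mp h2 with h3 | h3
      · exact absurd h3 h.cop
      · exact absurd h3 (not_dvd_degree (not_dvd_card_C h) β)

theorem exists_mult (χ : IrrCharacter G) (ι : C →* G) : ∃ n : IrrCharacter C → ℕ,
    (∀ β : IrrCharacter C, classInner ((χ : G → ℂ) ∘ ι) (β : C → ℂ) = n β) ∧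
      charDegree (χ : G → ℂ) = ∑ β : IrrCharacter C, n β * charDegree (β : C → ℂ) := by
  obtain ⟨n, hn⟩ := IsCharacter.exists_eq_sum
    (IsCharacter.comp_hom ι (IsIrrCharacter.isCharacter χ.2))
  refine ⟨n, fun β => ?_, ?_⟩
  · have : ((χ : G → ℂ) ∘ ι) = ∑ ψ : IrrCharacter C, (n ψ : ℂ) • (ψ : C → ℂ) := hn
    rw [this, classInner_sum_irr_left]
  · have h1 := congrFun hn 1
    simp only [map_one, Finset.sum_apply, Pi.smul_apply, smul_eq_mul] at h1
    have h2 : (charDegree (χ : G → ℂ) : ℂ) =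
        ((∑ β : IrrCharacter C, n β * charDegree (β : C → ℂ) : ℕ) : ℂ) := by
      push_cast
      rw [charDegree_cast (IsIrrCharacter.isCharacter χ.2)]
      simp_rw [fun β : IrrCharacter C => charDegree_cast (IsIrrCharacter.isCharacter β.2)]
      exact h1
    exact_mod_cast h2

theorem card_sub_card (hp : p.Prime) (h : Setup p φ ι) :
    (p : ℤ) ∣ (Nat.card G : ℤ) - Nat.card C := by
  haveI : Fact p.Prime := ⟨hp⟩
  have h1 := card_filter_modEq h (fun g => g ∉ ι.range) (by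
    intro s g
    refine not_congr ?_
    constructor
    · rintro ⟨c, hc⟩
      refine ⟨c, ?_⟩
      apply (φ s).injective
      rw [h.fixed, hc]
    · rintro ⟨c, rfl⟩
      exact ⟨c, (h.fixed s c).symm⟩) (fun c hc => hc ⟨c, rfl⟩)
  have h2 : (Finset.univ.filter (fun g => g ∉ ι.range)).card + Nat.card C = Nat.card G := by
    have h3 : Nat.card C = (Finset.univ.filter (fun g => g ∈ ι.range)).card := by
      rw [Nat.card_eq_fintype_card, ← Finset.card_univ, ← Finset.card_image_of_injective _ h.inj]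
      congr 1
      ext g
      simp [MonoidHom.mem_range]
    rw [h3, Nat.card_eq_fintype_card, ← Finset.card_univ, add_comm]
    exact Finset.card_filter_add_card_filter_not _
  have h4 : (Nat.card G : ℤ) - Nat.card C = ((Finset.univ.filter (fun g => g ∉ ι.range)).card : ℤ) := by
    rw [← h2]
    push_cast
    ring
  rw [h4]
  convert Int.natCast_dvd_natCast.mpr h1

/-- The Glauberman correspondence for a `p`-group of operators. -/
theorem main (hp : p.Prime) (h : Setup p φ ι) :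
    (∀ χ : IrrCharacter G, Inv φ (χ : G → ℂ) → ∃! β : IrrCharacter C, ∃ m : ℕ,
      classInner ((χ : G → ℂ) ∘ ι) (β : C → ℂ) = m ∧ ¬ p ∣ m) ∧
    (∀ χ : IrrCharacter G, Inv φ (χ : G → ℂ) → ∀ (β : IrrCharacter C) (m : ℕ),
      classInner ((χ : G → ℂ) ∘ ι) (β : C → ℂ) = m → ¬ p ∣ m →
        ((m : ℤ) ≡ 1 [ZMOD p] ∨ (m : ℤ) ≡ -1 [ZMOD p])) ∧
    (∀ χ χ' : IrrCharacter G, Inv φ (χ : G → ℂ) → Inv φ (χ' : G → ℂ) →
      ∀ (β : IrrCharacter C) (m m' : ℕ), classInner ((χ : G → ℂ) ∘ ι) (β : C → ℂ) = m → ¬ p ∣ m →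
        classInner ((χ' : G → ℂ) ∘ ι) (β : C → ℂ) = m' → ¬ p ∣ m' → χ = χ') ∧
    (∀ β : IrrCharacter C, ∃ χ : IrrCharacter G, Inv φ (χ : G → ℂ) ∧ ∃ m : ℕ,
      classInner ((χ : G → ℂ) ∘ ι) (β : C → ℂ) = m ∧ ¬ p ∣ m) := by
  obtain ⟨M, hM⟩ := exists_isPModular hp
  have := IsPModular.isPrime hM
  have huniq : ∀ χ : IrrCharacter G, Inv φ (χ : G → ℂ) → ∀ (β β' : IrrCharacter C) (m m' : ℕ),
      classInner ((χ : G → ℂ) ∘ ι) (β : C → ℂ) = m → ¬ p ∣ m →
      classInner ((χ : G → ℂ) ∘ ι) (β' : C → ℂ) = m' → ¬ p ∣ m' → β = β' := by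
    intro χ hχ β β' m m' hm hpm hm' hpm'
    exact beta_unique hM h hχ (fun ha => hpm ((aa_mem_iff hM h χ β hm).mp ha))
      (fun ha => hpm' ((aa_mem_iff hM h χ β' hm').mp ha))
  refine ⟨?_, ?_, ?_, ?_⟩
  · intro χ hχ
    obtain ⟨n, hn, hdeg⟩ := exists_mult χ ι
    have hex : ∃ β, ¬ p ∣ n β := by
      by_contra hcon
      push Not at hcon
      apply not_dvd_degree h.cop χ
      rw [hdeg]
      exact Finset.dvd_sum fun β _ => Dvd.dvd.mul_right (hcon β) _
    obtain ⟨β, hβ⟩ := hex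
    refine ⟨β, ⟨n β, hn β, hβ⟩, ?_⟩
    rintro β' ⟨m', hm', hpm'⟩
    exact huniq χ hχ β' β m' (n β) hm' hpm' (hn β) hβ
  · intro χ hχ β m hm hpm
    obtain ⟨n, hn, hdeg⟩ := exists_mult χ ι
    have hnm : n β = m := by
      have := (hn β).symm.trans hm
      exact_mod_cast this
    -- (3)
    have h3 : (p : ℤ) ∣ (charDegree (χ : G → ℂ) : ℤ) - m * charDegree (β : C → ℂ) := by
      have e1 : (charDegree (χ : G → ℂ) : ℤ) - m * charDegree (β : C → ℂ) =
          ∑ β' ∈ Finset.univ.erase β, (n β' : ℤ) * charDegree (β' : C → ℂ) := by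
        rw [hdeg, ← Finset.add_sum_erase Finset.univ _ (Finset.mem_univ β), hnm]
        push_cast
        ring
      rw [e1]
      refine Finset.dvd_sum fun β' hβ' => Dvd.dvd.mul_right ?_ _
      by_contra hnd
      have hnd' : ¬ p ∣ n β' := fun hd => hnd (Int.natCast_dvd_natCast.mpr hd)
      exact (Finset.ne_of_mem_erase hβ') (huniq χ hχ β' β _ _ (hn β') hnd' hm hpm)
    have h2 := card_sub_card hp h
    have h1 : (p : ℤ) ∣ (charDegree (χ : G → ℂ) : ℤ) * Nat.card C * m -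
        Nat.card G * charDegree (β : C → ℂ) := by
      have ha := aa_sub_one hM h hχ β.2 (fun ha => hpm ((aa_mem_iff hM h χ β hm).mp ha))
      have hb := MemLocalIdeal.mul_right ha
        (memLocalRing_natCast (M := M) (Nat.card G * charDegree (β : C → ℂ)))
      rw [sub_mul, one_mul, aa_mul_eq χ β hm] at hb
      rw [← memLocalIdeal_intCast_iff hM]
      push_cast at hb ⊢
      exact hb
    have h4 : (p : ℤ) ∣ ((m : ℤ) - 1) * ((m : ℤ) + 1) *
        ((Nat.card C : ℤ) * charDegree (β : C → ℂ)) := by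
      have e : ((m : ℤ) - 1) * ((m : ℤ) + 1) * ((Nat.card C : ℤ) * charDegree (β : C → ℂ)) =
          -(m * Nat.card C * ((charDegree (χ : G → ℂ) : ℤ) - m * charDegree (β : C → ℂ))) +
          ((charDegree (χ : G → ℂ) : ℤ) * Nat.card C * m - Nat.card G * charDegree (β : C → ℂ)) +
          ((Nat.card G : ℤ) - Nat.card C) * charDegree (β : C → ℂ) := by ring
      rw [e]
      exact dvd_add (dvd_add (Dvd.dvd.neg_right (Dvd.dvd.mul_left h3 _)) h1)
        (Dvd.dvd.mul_right h2 _)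
    have hpi : Prime (p : ℤ) := Nat.prime_iff_prime_int.mp hp
    rcases hpi.dvd_or_dvd h4 with h5 | h5
    · rcases hpi.dvd_or_dvd h5 with h6 | h6
      · left
        rw [Int.modEq_iff_dvd]
        have := Dvd.dvd.neg_right h6
        rwa [neg_sub] at this
      · right
        rw [Int.modEq_iff_dvd]
        have := Dvd.dvd.neg_right h6
        have e : -((m : ℤ) + 1) = -1 - m := by ring
        rwa [e] at this
    · exfalso
      rcases hpi.dvd_or_dvd h5 with h6 | h6
      · exact not_dvd_card_C h (Int.natCast_dvd_natCast.mp h6)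
      · exact not_dvd_degree (not_dvd_card_C h) β (Int.natCast_dvd_natCast.mp h6)
  · intro χ χ' hχ hχ' β m m' hm hpm hm' hpm'
    exact aa_unique hM h hχ hχ' β.2 (fun ha => hpm ((aa_mem_iff hM h χ β hm).mp ha))
      (fun ha => hpm' ((aa_mem_iff hM h χ' β hm').mp ha))
  · intro β
    obtain ⟨χ, hχ, ha⟩ := exists_inv hM h β.2
    obtain ⟨n, hn, -⟩ := exists_mult χ ι
    exact ⟨χ, hχ, n β, hn β, fun hd => ha ((aa_mem_iff hM h χ β (hn β)).mpr hd)⟩

end Cfsg.Agent.Lib.Lead.Glaub
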