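import Mathlib
import Cfsg.Agent.Lib.Lead.GlaubD
import Cfsg.Agent.Lib.Helper24.BlockTransport

/-!
# Glauberman correspondence for `p`-groups of operators: subgroup form
-/

set_option autoImplicit false

namespace Cfsg.Agent.Lib.Lead.Glaub

open Cfsg Cfsg.Agent.Lib.Helper2 Cfsg.Agent.Lib.Helper6 Cfsg.Agent.Lib.Helper24
open scoped ComplexConjugate Classical

attribute [local instance] irrFintype

section triv

variable {G C P : Type*} [Group G] [Group C] [Group P] {p : ℕ}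
  {φ : P →* MulAut G} {ι : C →* G} [Fintype G] [Fintype C]

/-- The statement of the correspondence. -/
def Corr (p : ℕ) (φ : P →* MulAut G) (ι : C →* G) : Prop :=
    (∀ χ : IrrCharacter G, Inv φ (χ : G → ℂ) → ∃! β : IrrCharacter C, ∃ m : ℕ,
      classInner ((χ : G → ℂ) ∘ ι) (β : C → ℂ) = m ∧ ¬ p ∣ m) ∧
    (∀ χ : IrrCharacter G, Inv φ (χ : G → ℂ) → ∀ (β : IrrCharacter C) (m : ℕ),
      classInner ((χ : G → ℂ) ∘ ι) (β : C → ℂ) = m → ¬ p ∣ m →
        ((m : ℤ) ≡ 1 [ZMOD p] ∨ (m : ℤ) ≡ -1 [ZMOD p])) ∧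
    (∀ χ χ' : IrrCharacter G, Inv φ (χ : G → ℂ) → Inv φ (χ' : G → ℂ) →
      ∀ (β : IrrCharacter C) (m m' : ℕ), classInner ((χ : G → ℂ) ∘ ι) (β : C → ℂ) = m → ¬ p ∣ m →
        classInner ((χ' : G → ℂ) ∘ ι) (β : C → ℂ) = m' → ¬ p ∣ m' → χ = χ') ∧
    (∀ β : IrrCharacter C, ∃ χ : IrrCharacter G, Inv φ (χ : G → ℂ) ∧ ∃ m : ℕ,
      classInner ((χ : G → ℂ) ∘ ι) (β : C → ℂ) = m ∧ ¬ p ∣ m)

theorem corr_of_bijective (hp : p.Prime) (hι : Function.Bijective ι) (hφ : ∀ s, φ s = 1) :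
    Corr p φ ι := by
  set e : C ≃* G := MulEquiv.ofBijective ι hι with he
  have hirr : ∀ χ : IrrCharacter G, IsIrrCharacter C ((χ : G → ℂ) ∘ ι) := fun χ =>
    isIrrCharacter_comp_equiv χ.2 e
  have hin : ∀ (χ : IrrCharacter G) (β : IrrCharacter C),
      classInner ((χ : G → ℂ) ∘ ι) (β : C → ℂ) = if (χ : G → ℂ) ∘ ι = (β : C → ℂ) then 1 else 0 :=
    fun χ β => classInner_irr (hirr χ) β.2
  have hkey : ∀ (χ : IrrCharacter G) (β : IrrCharacter C) (m : ℕ),
      classInner ((χ : G → ℂ) ∘ ι) (β : C → ℂ) = m → ¬ p ∣ m →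
        (χ : G → ℂ) ∘ ι = (β : C → ℂ) ∧ m = 1 := by
    intro χ β m hm hpm
    rw [hin] at hm
    split_ifs at hm with h1
    · exact ⟨h1, by exact_mod_cast hm.symm⟩
    · exfalso
      apply hpm
      have : m = 0 := by exact_mod_cast hm.symm
      rw [this]
      exact dvd_zero _
  have hinv : ∀ F : G → ℂ, Inv φ F := by
    intro F s g
    rw [hφ]
    rfl
  refine ⟨?_, ?_, ?_, ?_⟩
  · intro χ _
    refine ⟨⟨_, hirr χ⟩, ⟨1, ?_, hp.one_lt.ne' ∘ Nat.dvd_one.mp⟩, ?_⟩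
    · rw [hin, if_pos rfl]
      simp
    · rintro β ⟨m, hm, hpm⟩
      exact Subtype.ext (hkey χ β m hm hpm).1.symm
  · intro χ _ β m hm hpm
    left
    rw [(hkey χ β m hm hpm).2]
    rfl
  · intro χ χ' _ _ β m m' hm hpm hm' hpm'
    apply Subtype.ext
    funext g
    obtain ⟨c, rfl⟩ := hι.2 g
    have h1 := congrFun (hkey χ β m hm hpm).1 c
    have h2 := congrFun (hkey χ' β m' hm' hpm').1 c
    exact h1.trans h2.symm
  · intro β
    refine ⟨⟨(β : C → ℂ) ∘ e.symm, isIrrCharacter_comp_equiv β.2 e.symm⟩, hinv _, 1, ?_,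
      hp.one_lt.ne' ∘ Nat.dvd_one.mp⟩
    rw [hin, if_pos]
    · simp
    · funext c
      simp only [Function.comp_apply]
      exact congrArg _ (e.symm_apply_apply c)

theorem corr [Finite P] (hp : p.Prime) (hinj : Function.Injective ι)
    (hfix : ∀ g, (∀ s, φ s g = g) ↔ g ∈ ι.range) (hP : IsPGroup p P)
    (hcop : (Nat.card G).Coprime (Nat.card P)) : Corr p φ ι := by
  by_cases hd : p ∣ Nat.card G
  · haveI : Fact p.Prime := ⟨hp⟩
    obtain ⟨k, hk⟩ := (IsPGroup.iff_card.mp hP)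
    have hk0 : k = 0 := by
      by_contra hne
      have h1 : p ∣ Nat.card P := by
        rw [hk]
        exact dvd_pow_self p hne
      exact hp.one_lt.ne' (Nat.dvd_one.mp (hcop ▸ Nat.dvd_gcd hd h1))
    rw [hk0, pow_zero] at hk
    have hsub : Subsingleton P := (Nat.card_eq_one_iff_unique.mp hk).1
    have hφ : ∀ s, φ s = 1 := by
      intro s
      rw [Subsingleton.elim s 1, map_one]
    refine corr_of_bijective hp ⟨hinj, ?_⟩ hφ
    intro g
    exact (hfix g).mp (fun s => by rw [hφ]; rfl)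
  · exact main hp ⟨hinj, hfix, hP, hd⟩

end triv

section sub

variable {Γ : Type*} [Group Γ]

/-- conjugation action of a subgroup normalising `G` -/
def conjOn (G S : Subgroup Γ) (hnorm : ∀ s ∈ S, ∀ g ∈ G, s * g * s⁻¹ ∈ G) : S →* MulAut G where
  toFun s :=
    { toFun := fun g => ⟨s * g * (s : Γ)⁻¹, hnorm s s.2 g g.2⟩
      invFun := fun g => ⟨(s : Γ)⁻¹ * g * s, by
        simpa using hnorm (s : Γ)⁻¹ (S.inv_mem s.2) g g.2⟩
      left_inv := by
        intro g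
        apply Subtype.ext
        simp [mul_assoc]
      right_inv := by
        intro g
        apply Subtype.ext
        simp [mul_assoc]
      map_mul' := by
        intro g g'
        apply Subtype.ext
        simp [mul_assoc] }
  map_one' := by
    ext g
    simp
  map_mul' := by
    intro s t
    ext g
    simp [mul_assoc]

theorem conjOn_apply (G S : Subgroup Γ) (hnorm : ∀ s ∈ S, ∀ g ∈ G, s * g * s⁻¹ ∈ G) (s : S)
    (g : G) : ((conjOn G S hnorm s g : G) : Γ) = s * g * (s : Γ)⁻¹ := rfl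

theorem inv_conjOn_iff (G S : Subgroup Γ) (hnorm : ∀ s ∈ S, ∀ g ∈ G, s * g * s⁻¹ ∈ G)
    (χ : G → ℂ) : Inv (conjOn G S hnorm) χ ↔
      ∀ s ∈ S, ∀ g g' : G, (g' : Γ) = s * g * s⁻¹ → χ g' = χ g := by
  constructor
  · intro h s hs g g' hg
    rw [← h ⟨s, hs⟩ g]
    congr 1
    exact Subtype.ext hg
  · intro h s g
    exact h s s.2 g _ rfl

theorem conjOn_fix (G S C : Subgroup Γ) (hnorm : ∀ s ∈ S, ∀ g ∈ G, s * g * s⁻¹ ∈ G)
    (hC : C = G ⊓ Subgroup.centralizer (S : Set Γ)) (hCG : C ≤ G) (g : G) :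
    (∀ s, conjOn G S hnorm s g = g) ↔ g ∈ (Subgroup.inclusion hCG).range := by
  constructor
  · intro h
    refine ⟨⟨g, ?_⟩, rfl⟩
    rw [hC]
    refine ⟨g.2, ?_⟩
    change (g : Γ) ∈ Subgroup.centralizer (S : Set Γ)
    rw [Subgroup.mem_centralizer_iff]
    intro s hs
    have := congrArg (fun x : G => (x : Γ)) (h ⟨s, hs⟩)
    simp only [conjOn_apply] at this
    calc s * g = s * g * s⁻¹ * s := by group
      _ = g * s := by rw [this]
  · rintro ⟨c, rfl⟩ s
    apply Subtype.ext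
    rw [conjOn_apply]
    have hc : (c : Γ) ∈ Subgroup.centralizer (S : Set Γ) := by
      have h0 : (c : Γ) ∈ G ⊓ Subgroup.centralizer (S : Set Γ) := hC ▸ c.2
      exact h0.2
    have h1 := Subgroup.mem_centralizer_iff.mp hc s s.2
    change (s : Γ) * c * (s : Γ)⁻¹ = c
    rw [h1]
    group

theorem corr_sub [Finite Γ] (G S C : Subgroup Γ) [Fintype G] [Fintype C]
    (hnorm : ∀ s ∈ S, ∀ g ∈ G, s * g * s⁻¹ ∈ G) (hcop : (Nat.card G).Coprime (Nat.card S))
    {p : ℕ} (hp : p.Prime) (hS : IsPGroup p S)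
    (hC : C = G ⊓ Subgroup.centralizer (S : Set Γ)) (hCG : C ≤ G) :
    Corr p (conjOn G S hnorm) (Subgroup.inclusion hCG) :=
  corr hp (Subgroup.inclusion_injective hCG) (conjOn_fix G S C hnorm hC hCG) hS hcop

end sub

end Cfsg.Agent.Lib.Lead.Glaub
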