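import Mathlib
import Cfsg.Agent.Lib.Lead.GlaubE
import Cfsg.Agent.Lib.Helper1.Hall

/-!
# Glauberman correspondence: induction along a normal `p`-subgroup of the operator group
-/

set_option autoImplicit false

namespace Cfsg.Agent.Lib.Lead.Glaub

open Cfsg Cfsg.Agent.Lib.Helper2 Cfsg.Agent.Lib.Helper6 Cfsg.Agent.Lib.Helper24
open scoped ComplexConjugate Classical

attribute [local instance] irrFintype

variable {G P : Type*} [Group G] [Group P]

/-- fixed points of a subgroup of operators -/
def fixSub (φ : P →* MulAut G) (T : Subgroup P) : Subgroup G where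
  carrier := {g | ∀ t ∈ T, φ t g = g}
  one_mem' := fun t _ => map_one _
  mul_mem' := by
    intro a b ha hb t ht
    rw [map_mul, ha t ht, hb t ht]
  inv_mem' := by
    intro a ha t ht
    rw [map_inv, ha t ht]

theorem mem_fixSub {φ : P →* MulAut G} {T : Subgroup P} {g : G} :
    g ∈ fixSub φ T ↔ ∀ t ∈ T, φ t g = g := Iff.rfl

theorem map_mem_fixSub (φ : P →* MulAut G) (T : Subgroup P) [hT : T.Normal] (s : P) {g : G}
    (hg : g ∈ fixSub φ T) : φ s g ∈ fixSub φ T := by
  intro t ht
  have h1 : s⁻¹ * t * s ∈ T := by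
    have := hT.conj_mem t ht s⁻¹
    simpa using this
  have h2 := hg _ h1
  have h3 : φ t (φ s g) = φ s (φ (s⁻¹ * t * s) g) := by
    rw [← MulAut.mul_apply, ← MulAut.mul_apply, ← map_mul, ← map_mul]
    congr 2
    group
  rw [h3, h2]

/-- the operators act on the fixed points of a normal subgroup -/
def actFix (φ : P →* MulAut G) (T : Subgroup P) [T.Normal] : P →* MulAut (fixSub φ T) where
  toFun s :=
    { toFun := fun g => ⟨φ s g, map_mem_fixSub φ T s g.2⟩
      invFun := fun g => ⟨φ s⁻¹ g, map_mem_fixSub φ T s⁻¹ g.2⟩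
      left_inv := by
        intro g
        apply Subtype.ext
        simp
      right_inv := by
        intro g
        apply Subtype.ext
        simp
      map_mul' := by
        intro g g'
        apply Subtype.ext
        simp }
  map_one' := by
    ext g
    simp
  map_mul' := by
    intro s t
    ext g
    simp

theorem actFix_apply (φ : P →* MulAut G) (T : Subgroup P) [T.Normal] (s : P) (g : fixSub φ T) :
    ((actFix φ T s g : fixSub φ T) : G) = φ s g := rfl

/-- the quotient acts on the fixed points -/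
def actQ (φ : P →* MulAut G) (T : Subgroup P) [T.Normal] : P ⧸ T →* MulAut (fixSub φ T) :=
  QuotientGroup.lift T (actFix φ T) (by
    intro t ht
    ext g
    exact g.2 t ht)

theorem actQ_mk (φ : P →* MulAut G) (T : Subgroup P) [T.Normal] (s : P) :
    actQ φ T (s : P ⧸ T) = actFix φ T s := rfl

theorem inv_actQ_iff (φ : P →* MulAut G) (T : Subgroup P) [T.Normal] (F : fixSub φ T → ℂ) :
    Inv (actQ φ T) F ↔ Inv (actFix φ T) F := by
  constructor
  · intro h s g
    exact h (s : P ⧸ T) g
  · intro h s g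
    obtain ⟨s, rfl⟩ := QuotientGroup.mk_surjective s
    exact h s g

theorem setup_fixSub (φ : P →* MulAut G) (T : Subgroup P) {p : ℕ} (hT : IsPGroup p T)
    (hcop : ¬ p ∣ Nat.card G) : Setup p (φ.comp T.subtype) (fixSub φ T).subtype where
  inj := Subtype.val_injective
  fix := by
    intro g
    constructor
    · intro h
      exact ⟨⟨g, fun t ht => h ⟨t, ht⟩⟩, rfl⟩
    · rintro ⟨c, rfl⟩ s
      exact c.2 s s.2
  pgrp := hT
  cop := hcop

theorem Inv.comp_subtype {φ : P →* MulAut G} {F : G → ℂ} (h : Inv φ F) (T : Subgroup P) :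
    Inv (φ.comp T.subtype) F := fun s g => h s g

/-- the relation defining the correspondence -/
def Rel {C : Type*} [Group C] [Fintype C] (p : ℕ) (ι : C →* G) (χ : G → ℂ) (β : C → ℂ) : Prop :=
  ∃ m : ℕ, classInner (χ ∘ ι) β = m ∧ ¬ p ∣ m

theorem rel_equivariant {C : Type*} [Group C] [Fintype C] {p : ℕ} {ι : C →* G} {χ : G → ℂ}
    {β : C → ℂ} (a : MulAut G) (b : MulAut C) (hab : ∀ c, a (ι c) = ι (b c))
    (h : Rel p ι χ β) : Rel p ι (χ ∘ a) (β ∘ b) := by
  obtain ⟨m, hm, hpm⟩ := h
  refine ⟨m, ?_, hpm⟩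
  rw [← hm, classInner, classInner]
  congr 1
  refine Fintype.sum_equiv b.toEquiv _ _ fun c => ?_
  simp only [Function.comp_apply, hab]
  rfl

end Cfsg.Agent.Lib.Lead.Glaub
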