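import Mathlib
import Cfsg.Agent.Lib.Lead.GlaubF

/-!
# Invariant characters and invariant classes under a solvable coprime operator group
-/

set_option autoImplicit false

namespace Cfsg.Agent.Lib.Lead.Glaub

open Cfsg Cfsg.Agent.Lib.Helper2 Cfsg.Agent.Lib.Helper6 Cfsg.Agent.Lib.Helper24
open scoped ComplexConjugate Classical

attribute [local instance] irrFintype

universe u v

section step

variable {G : Type u} {P : Type v} [Group G] [Group P]

theorem inv_comp_of_normal {φ : P →* MulAut G} {T : Subgroup P} [hT : T.Normal] {F : G → ℂ}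
    (h : Inv (φ.comp T.subtype) F) (s : P) : Inv (φ.comp T.subtype) (F ∘ φ s) := by
  intro t g
  have h1 : s * t * s⁻¹ ∈ T := hT.conj_mem t t.2 s
  have h2 := h ⟨_, h1⟩ (φ s g)
  simp only [Function.comp_apply, MonoidHom.comp_apply, Subgroup.coe_subtype] at h2 ⊢
  rw [← h2, ← MulAut.mul_apply, ← MulAut.mul_apply, ← map_mul, ← map_mul]
  congr 3
  group

/-- invariant characters correspond -/
theorem exists_corr [Fintype G] (φ : P →* MulAut G) (T : Subgroup P) [T.Normal] {p : ℕ}
    (hp : p.Prime) (hT : IsPGroup p T) (hcop : ¬ p ∣ Nat.card G) :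
    (∀ χ : IrrCharacter G, Inv φ (χ : G → ℂ) → ∃ β : IrrCharacter (fixSub φ T),
      Inv (actFix φ T) (β : fixSub φ T → ℂ) ∧
        Rel p (fixSub φ T).subtype (χ : G → ℂ) (β : fixSub φ T → ℂ)) ∧
    (∀ β : IrrCharacter (fixSub φ T), Inv (actFix φ T) (β : fixSub φ T → ℂ) →
      ∃ χ : IrrCharacter G, Inv φ (χ : G → ℂ) ∧
        Rel p (fixSub φ T).subtype (χ : G → ℂ) (β : fixSub φ T → ℂ)) := by
  obtain ⟨h1, -, h3, h4⟩ := main hp (setup_fixSub φ T hT hcop)
  constructor
  · intro χ hχ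
    obtain ⟨β, hβ, huniq⟩ := h1 χ (hχ.comp_subtype T)
    refine ⟨β, ?_, hβ⟩
    intro s c
    have hr : Rel p (fixSub φ T).subtype ((χ : G → ℂ) ∘ φ s)
        ((β : fixSub φ T → ℂ) ∘ actFix φ T s) :=
      rel_equivariant (φ s) (actFix φ T s) (fun c => rfl) hβ
    have e : (χ : G → ℂ) ∘ φ s = (χ : G → ℂ) := funext fun g => hχ s g
    rw [e] at hr
    have := huniq ⟨_, IsIrrCharacter.comp_mulEquiv β.2 (actFix φ T s)⟩ hr
    exact congrFun (congrArg Subtype.val this) c
  · intro β hβ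
    obtain ⟨χ, hχ, hr⟩ := h4 β
    refine ⟨χ, ?_, hr⟩
    intro s g
    have hr' : Rel p (fixSub φ T).subtype ((χ : G → ℂ) ∘ φ s)
        ((β : fixSub φ T → ℂ) ∘ actFix φ T s) :=
      rel_equivariant (φ s) (actFix φ T s) (fun c => rfl) hr
    have e : (β : fixSub φ T → ℂ) ∘ actFix φ T s = (β : fixSub φ T → ℂ) := funext fun g => hβ s g
    rw [e] at hr'
    obtain ⟨m, hm, hpm⟩ := hr
    obtain ⟨m', hm', hpm'⟩ := hr'
    have := h3 ⟨_, IsIrrCharacter.comp_mulEquiv χ.2 (φ s)⟩ χ (inv_comp_of_normal hχ s) hχ β m' m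
      hm' hpm' hm hpm
    exact congrFun (congrArg Subtype.val this) g

theorem card_inv_irr_step [Fintype G] (φ : P →* MulAut G) (T : Subgroup P) [T.Normal] {p : ℕ}
    (hp : p.Prime) (hT : IsPGroup p T) (hcop : ¬ p ∣ Nat.card G) :
    Nat.card {χ : IrrCharacter G // Inv φ (χ : G → ℂ)} =
      Nat.card {β : IrrCharacter (fixSub φ T) // Inv (actQ φ T) (β : fixSub φ T → ℂ)} := by
  obtain ⟨h1, -, h3, -⟩ := main hp (setup_fixSub φ T hT hcop)
  obtain ⟨e1, e2⟩ := exists_corr φ T hp hT hcop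
  choose f hf1 hf2 using e1
  apply Nat.card_eq_of_bijective
    (fun χ : {χ : IrrCharacter G // Inv φ (χ : G → ℂ)} =>
      (⟨f χ.1 χ.2, (inv_actQ_iff φ T _).mpr (hf1 χ.1 χ.2)⟩ :
        {β : IrrCharacter (fixSub φ T) // Inv (actQ φ T) (β : fixSub φ T → ℂ)}))
  constructor
  · intro χ χ' hh
    have hh' : f χ.1 χ.2 = f χ'.1 χ'.2 := congrArg Subtype.val hh
    obtain ⟨m, hm, hpm⟩ := hf2 χ.1 χ.2
    obtain ⟨m', hm', hpm'⟩ := hf2 χ'.1 χ'.2
    rw [← hh'] at hm'
    exact Subtype.ext (h3 χ.1 χ'.1 (χ.2.comp_subtype T) (χ'.2.comp_subtype T) _ m m' hm hpm hm' hpm')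
  · intro β
    obtain ⟨χ, hχ, hr⟩ := e2 β.1 ((inv_actQ_iff φ T _).mp β.2)
    refine ⟨⟨χ, hχ⟩, Subtype.ext ?_⟩
    exact (h1 χ (hχ.comp_subtype T)).unique (hf2 χ hχ) hr

/-- invariant conjugacy classes -/
def InvC (φ : P →* MulAut G) (K : ConjClasses G) : Prop :=
  ∀ s g, ConjClasses.mk g = K → ConjClasses.mk (φ s g) = K

theorem exists_fixed_of_invC [Finite G] (φ : P →* MulAut G) (T : Subgroup P) {p : ℕ}
    (hp : p.Prime) (hT : IsPGroup p T) (hcop : ¬ p ∣ Nat.card G) {g₀ : G}
    (hK : InvC φ (ConjClasses.mk g₀)) : ∃ c : fixSub φ T, IsConj (c : G) g₀ := by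
  cases nonempty_fintype G
  haveI : Fact p.Prime := ⟨hp⟩
  by_contra hcon
  push Not at hcon
  have hs := setup_fixSub φ T hT hcop
  have h1 := card_filter_modEq hs (fun g => IsConj g₀ g) (by
    intro s g
    constructor
    · intro h
      have h2 := hK (s : P)⁻¹ (φ s g) (ConjClasses.mk_eq_mk_iff_isConj.mpr h.symm)
      rw [map_inv, MulAut.inv_apply_self] at h2
      exact (ConjClasses.mk_eq_mk_iff_isConj.mp h2).symm
    · intro h
      exact (ConjClasses.mk_eq_mk_iff_isConj.mp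
        (hK s g (ConjClasses.mk_eq_mk_iff_isConj.mpr h.symm))).symm) (fun c hc => hcon c hc.symm)
  apply hcop
  have h2 := card_isConj_eq_index g₀
  rw [Nat.card_eq_fintype_card, Fintype.card_subtype] at h2
  have h3 := Subgroup.index_dvd_card (Subgroup.centralizer ({g₀} : Set G))
  rw [← h2] at h3
  refine Nat.dvd_trans ?_ h3
  convert h1

theorem card_inv_classes_step [Finite G] (φ : P →* MulAut G) (T : Subgroup P) [T.Normal] {p : ℕ}
    (hp : p.Prime) (hT : IsPGroup p T) (hcop : ¬ p ∣ Nat.card G) :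
    Nat.card {K : ConjClasses G // InvC φ K} =
      Nat.card {L : ConjClasses (fixSub φ T) // InvC (actQ φ T) L} := by
  have hs := setup_fixSub φ T hT hcop
  have hfus : ∀ c c' : fixSub φ T, IsConj (c : G) (c' : G) → IsConj c c' := by
    intro c c' h
    obtain ⟨x, hx⟩ := isConj_iff.mp h
    obtain ⟨d, hd⟩ := hs.fusion hp (c := c) (c' := c') (g := x) hx.symm
    exact isConj_iff.mpr ⟨d, hd.symm⟩
  symm
  have hmap : ∀ L : ConjClasses (fixSub φ T), InvC (actQ φ T) L →
      InvC φ (ConjClasses.map (fixSub φ T).subtype L) := by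
    intro L
    obtain ⟨c, rfl⟩ := ConjClasses.exists_rep L
    intro hL s g hg
    have h1 : IsConj g (c : G) := ConjClasses.mk_eq_mk_iff_isConj.mp hg
    have h2 : IsConj (φ s g) (φ s c) := (φ s).toMonoidHom.map_isConj h1
    have h3 := ConjClasses.mk_eq_mk_iff_isConj.mp (hL (s : P ⧸ T) c rfl)
    have h4 : IsConj (φ s c) (c : G) := (fixSub φ T).subtype.map_isConj h3
    exact ConjClasses.mk_eq_mk_iff_isConj.mpr (h2.trans h4)
  apply Nat.card_eq_of_bijective
    (fun L : {L : ConjClasses (fixSub φ T) // InvC (actQ φ T) L} =>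
      (⟨ConjClasses.map (fixSub φ T).subtype L.1, hmap L.1 L.2⟩ :
        {K : ConjClasses G // InvC φ K}))
  constructor
  · rintro ⟨L, hL⟩ ⟨L', hL'⟩ hh
    have hh' : ConjClasses.map (fixSub φ T).subtype L = ConjClasses.map (fixSub φ T).subtype L' :=
      congrArg Subtype.val hh
    apply Subtype.ext
    obtain ⟨c, rfl⟩ := ConjClasses.exists_rep L
    obtain ⟨c', rfl⟩ := ConjClasses.exists_rep L'
    exact ConjClasses.mk_eq_mk_iff_isConj.mpr
      (hfus c c' (ConjClasses.mk_eq_mk_iff_isConj.mp hh'))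
  · rintro ⟨K, hK⟩
    obtain ⟨g₀, rfl⟩ := ConjClasses.exists_rep K
    obtain ⟨c, hc⟩ := exists_fixed_of_invC φ T hp hT hcop hK
    refine ⟨⟨ConjClasses.mk c, ?_⟩, Subtype.ext ?_⟩
    · intro s c' hc'
      obtain ⟨s, rfl⟩ := QuotientGroup.mk_surjective s
      have h1 : IsConj (c' : G) (c : G) :=
        (fixSub φ T).subtype.map_isConj (ConjClasses.mk_eq_mk_iff_isConj.mp hc')
      have h2 := hK s c' (ConjClasses.mk_eq_mk_iff_isConj.mpr (h1.trans hc))
      have h3 : IsConj (φ s c') (c : G) := (ConjClasses.mk_eq_mk_iff_isConj.mp h2).trans hc.symm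
      exact ConjClasses.mk_eq_mk_iff_isConj.mpr (hfus (actFix φ T s c') c h3)
    · exact ConjClasses.mk_eq_mk_iff_isConj.mpr hc

end step

/-- **Glauberman**: a solvable coprime operator group fixes as many irreducible characters as
conjugacy classes. -/
theorem card_inv_eq : ∀ (n : ℕ) (G : Type u) [Group G] [Finite G] (P : Type v) [Group P] [Finite P]
    (φ : P →* MulAut G), Nat.card P = n → Group.IsSolvable P →
    (Nat.card G).Coprime (Nat.card P) →
    Nat.card {χ : IrrCharacter G // Inv φ (χ : G → ℂ)} =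
      Nat.card {K : ConjClasses G // InvC φ K} := by
  intro n
  induction n using Nat.strong_induction_on with
  | _ n ih =>
    intro G _ _ P _ _ φ hn hsol hcop
    cases nonempty_fintype G
    rcases subsingleton_or_nontrivial P with hsub | hnt
    · have hφ : ∀ s, φ s = 1 := fun s => by rw [Subsingleton.elim s 1, map_one]
      have h1 : ∀ χ : IrrCharacter G, Inv φ (χ : G → ℂ) := by
        intro χ s g
        rw [hφ]
        rfl
      have h2 : ∀ K : ConjClasses G, InvC φ K := by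
        intro K s g hg
        rw [hφ]
        exact hg
      rw [Nat.card_congr (Equiv.subtypeUnivEquiv h1), Nat.card_congr (Equiv.subtypeUnivEquiv h2)]
      exact card_irr_eq_card_conjClasses
    · obtain ⟨p, T, hp, hTn, hTne, -, hTp⟩ :=
        Cfsg.Agent.Lib.Helper1.exists_normal_elementary_abelian (G := P)
      have hT : IsPGroup p T := Cfsg.Agent.Lib.Helper1.isPGroup_of_pow_eq_one hTp
      haveI : Fact p.Prime := ⟨hp⟩
      have hpT : p ∣ Nat.card T := by
        obtain ⟨k, hk⟩ := IsPGroup.iff_card.mp hT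
        rw [hk]
        apply dvd_pow_self
        rintro rfl
        rw [pow_zero] at hk
        exact hTne ((Subgroup.card_eq_one (H := T)).mp hk)
      have hpG : ¬ p ∣ Nat.card G := by
        intro hd
        have h1 : p ∣ Nat.card P := hpT.trans (Subgroup.card_subgroup_dvd_card T)
        exact hp.one_lt.ne' (Nat.dvd_one.mp (hcop ▸ Nat.dvd_gcd hd h1))
      rw [card_inv_irr_step φ T hp hT hpG, card_inv_classes_step φ T hp hT hpG]
      have hcard : Nat.card P = Nat.card (P ⧸ T) * Nat.card T :=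
        Subgroup.card_eq_card_quotient_mul_card_subgroup T
      refine ih (Nat.card (P ⧸ T)) ?_ _ _ (actQ φ T) rfl ?_ ?_
      · rw [← hn, hcard]
        have h1 : 1 < Nat.card T := lt_of_lt_of_le hp.one_lt (Nat.le_of_dvd Nat.card_pos hpT)
        exact lt_mul_of_one_lt_right Nat.card_pos h1
      · exact Group.isSolvable_of_surjective (QuotientGroup.mk'_surjective T)
      · exact Nat.Coprime.coprime_dvd_left (Subgroup.card_subgroup_dvd_card _)
          (Nat.Coprime.coprime_dvd_right ⟨Nat.card T, hcard⟩ hcop)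

end Cfsg.Agent.Lib.Lead.Glaub
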