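import Mathlib
import Cfsg.Agent.Lib.Lead.GlaubG

/-!
# Invariant classes under a solvable coprime operator group and classes of the fixed points
-/

set_option autoImplicit false

namespace Cfsg.Agent.Lib.Lead.Glaub

open Cfsg Cfsg.Agent.Lib.Helper2 Cfsg.Agent.Lib.Helper6 Cfsg.Agent.Lib.Helper24
open scoped ComplexConjugate Classical

universe u v w

theorem card_conjClasses_of_bijective {G : Type u} {C : Type w} [Group G] [Group C] (ι : C →* G)
    (h : Function.Bijective ι) : Nat.card (ConjClasses C) = Nat.card (ConjClasses G) := by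
  apply Nat.card_eq_of_bijective (ConjClasses.map ι)
  constructor
  · intro L L' hh
    obtain ⟨c, rfl⟩ := ConjClasses.exists_rep L
    obtain ⟨c', rfl⟩ := ConjClasses.exists_rep L'
    have h1 : IsConj (ι c) (ι c') := ConjClasses.mk_eq_mk_iff_isConj.mp hh
    obtain ⟨x, hx⟩ := isConj_iff.mp h1
    obtain ⟨y, rfl⟩ := h.2 x
    apply ConjClasses.mk_eq_mk_iff_isConj.mpr
    apply isConj_iff.mpr
    refine ⟨y, h.1 ?_⟩
    rw [map_mul, map_mul, map_inv, hx]
  · exact ConjClasses.map_surjective h.2

/-- a solvable coprime operator group fixes as many classes as its fixed points have classes -/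
theorem card_invC_eq : ∀ (n : ℕ) (G : Type u) [Group G] [Finite G] (P : Type v) [Group P] [Finite P]
    (φ : P →* MulAut G) (C : Type w) [Group C] (ι : C →* G), Nat.card P = n → Group.IsSolvable P →
    (Nat.card G).Coprime (Nat.card P) → Function.Injective ι →
    (∀ g, g ∈ ι.range ↔ ∀ s, φ s g = g) →
    Nat.card {K : ConjClasses G // InvC φ K} = Nat.card (ConjClasses C) := by
  intro n
  induction n using Nat.strong_induction_on with
  | _ n ih =>
    intro G _ _ P _ _ φ C _ ι hn hsol hcop hinj hfix
    rcases subsingleton_or_nontrivial P with hsub | hnt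
    · have hφ : ∀ s, φ s = 1 := fun s => by rw [Subsingleton.elim s 1, map_one]
      have h2 : ∀ K : ConjClasses G, InvC φ K := by
        intro K s g hg
        rw [hφ]
        exact hg
      rw [Nat.card_congr (Equiv.subtypeUnivEquiv h2)]
      symm
      apply card_conjClasses_of_bijective ι
      refine ⟨hinj, fun g => ?_⟩
      exact (hfix g).mpr (fun s => by rw [hφ]; rfl)
    · obtain ⟨p, T, hp, hTn, hTne, -, hTp⟩ :=
        Cfsg.Agent.Lib.Helper1.exists_normal_elementary_abelian (G := P)
      have hT : IsPGroup p T := Cfsg.Agent.Lib.Helper1.isPGroup_of_pow_eq_one hTp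
      haveI : Fact p.Prime := ⟨hp⟩
      have hpT : p ∣ Nat.card T := by
        obtain ⟨k, hk⟩ := IsPGroup.iff_card.mp hT
        rw [hk]
        apply dvd_pow_self
        rintro rfl
        rw [pow_zero] at hk
        exact hTne ((Subgroup.card_eq_one (H := T)).mp hk)
      have hpG : ¬ p ∣ Nat.card G := by
        intro hd
        have h1 : p ∣ Nat.card P := hpT.trans (Subgroup.card_subgroup_dvd_card T)
        exact hp.one_lt.ne' (Nat.dvd_one.mp (hcop ▸ Nat.dvd_gcd hd h1))
      rw [card_inv_classes_step φ T hp hT hpG]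
      have hcard : Nat.card P = Nat.card (P ⧸ T) * Nat.card T :=
        Subgroup.card_eq_card_quotient_mul_card_subgroup T
      have hmem : ∀ c : C, ι c ∈ fixSub φ T := by
        intro c
        rw [mem_fixSub]
        intro t _
        exact (hfix (ι c)).mp ⟨c, rfl⟩ t
      refine ih (Nat.card (P ⧸ T)) ?_ _ _ (actQ φ T) C (ι.codRestrict (fixSub φ T) hmem) rfl
        ?_ ?_ ?_ ?_
      · rw [← hn, hcard]
        have h1 : 1 < Nat.card T := lt_of_lt_of_le hp.one_lt (Nat.le_of_dvd Nat.card_pos hpT)
        exact lt_mul_of_one_lt_right Nat.card_pos h1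
      · exact Group.isSolvable_of_surjective (QuotientGroup.mk'_surjective T)
      · exact Nat.Coprime.coprime_dvd_left (Subgroup.card_subgroup_dvd_card _)
          (Nat.Coprime.coprime_dvd_right ⟨Nat.card T, hcard⟩ hcop)
      · intro c c' h
        exact hinj (congrArg Subtype.val h)
      · intro g
        constructor
        · rintro ⟨c, rfl⟩ s
          obtain ⟨s, rfl⟩ := QuotientGroup.mk_surjective s
          apply Subtype.ext
          exact (hfix (ι c)).mp ⟨c, rfl⟩ s
        · intro h
          obtain ⟨c, hc⟩ := (hfix (g : G)).mpr (fun s => congrArg Subtype.val (h (s : P ⧸ T)))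
          exact ⟨c, Subtype.ext hc⟩

end Cfsg.Agent.Lib.Lead.Glaub
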