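import Mathlib
import Cfsg.Agent.Lib.Lead.GlaubK
import Cfsg.Agent.S0856
import Cfsg.Agent.S0867
import Cfsg.Agent.S0887
import Cfsg.Agent.Lib.Helper6.Cover

/-!
# Characters of degree prime to the index of a normal Hall subgroup
-/

set_option autoImplicit false

namespace Cfsg.Agent.Lib.Lead.Glaub

open Cfsg Cfsg.Agent.Lib.Helper2 Cfsg.Agent.Lib.Helper6 Cfsg.Agent.Lib.Helper24
open scoped ComplexConjugate Classical

attribute [local instance] irrFintype

theorem res_eq_of_degree_eq {G : Type*} [Group G] [Fintype G] (K : Subgroup G)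
    (χ : IrrCharacter G) (θ : IrrCharacter K)
    (hcon : classInner ((χ : G → ℂ) ∘ K.subtype) (θ : K → ℂ) ≠ 0)
    (hdeg : charDegree (χ : G → ℂ) = charDegree (θ : K → ℂ)) :
    (χ : G → ℂ) ∘ K.subtype = (θ : K → ℂ) := by
  obtain ⟨n, hn, hsum⟩ := exists_mult χ K.subtype
  have hθ : n θ ≠ 0 := by
    intro h
    apply hcon
    rw [hn, h]
    simp
  rw [← Finset.add_sum_erase _ _ (Finset.mem_univ θ), hdeg] at hsum
  have hpos := charDegree_pos θ.2
  have h0 : charDegree (θ : K → ℂ) ≤ n θ * charDegree (θ : K → ℂ) :=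
    Nat.le_mul_of_pos_left _ (Nat.pos_of_ne_zero hθ)
  have h1 : ∑ β ∈ Finset.univ.erase θ, n β * charDegree (β : K → ℂ) = 0 := by omega
  have h2 : n θ * charDegree (θ : K → ℂ) = 1 * charDegree (θ : K → ℂ) := by omega
  have h3 : n θ = 1 := Nat.eq_of_mul_eq_mul_right hpos h2
  have h4 : ∀ β : IrrCharacter K, β ≠ θ → n β = 0 := by
    intro β hβ
    have := (Finset.sum_eq_zero_iff.mp h1) β (Finset.mem_erase.mpr ⟨hβ, Finset.mem_univ _⟩)
    rcases Nat.mul_eq_zero.mp this with h | h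
    · exact h
    · exact absurd h (charDegree_pos β.2).ne'
  have hcl : IsClassFunction K ((χ : G → ℂ) ∘ K.subtype) :=
    isClassFunction_comp (irr_isClassFunction χ.2) _
  rw [classFunction_eq_sum hcl, Finset.sum_eq_single θ]
  · rw [hn, h3]
    simp
  · intro β _ hβ
    rw [hn, h4 β hβ]
    simp
  · intro h
    exact absurd (Finset.mem_univ _) h

theorem detOrder_dvd_card {G : Type*} [Group G] [Finite G] {θ : G → ℂ} (hθ : IsCharacter G θ) :
    detOrder θ ∣ Nat.card G := by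
  obtain ⟨δ, hδ⟩ := Cfsg.Agent.Lib.Helper13.exists_hom_detChar hθ
  apply orderOf_dvd_of_pow_eq_one
  funext g
  rw [hδ]
  simp only [Pi.pow_apply, Pi.one_apply]
  rw [← Units.val_pow_eq_pow_val, ← map_pow, pow_card_eq_one', map_one, Units.val_one]

section count

variable {G : Type*} [Group G] [Finite G] (K : Subgroup G) [hK : K.Normal]

/-- invariance under the whole group -/
def GInv (θ : K → ℂ) : Prop :=
  ∀ (g : G) (n : K), θ ⟨g * n * g⁻¹, hK.conj_mem (n : G) n.2 g⟩ = θ n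

theorem exists_ext (hcop : (Nat.card K).Coprime K.index) (θ : IrrCharacter K)
    (hθ : GInv K (θ : K → ℂ)) :
    ∃ χ : G → ℂ, IsIrrCharacter G χ ∧ ∀ n : K, χ n = (θ : K → ℂ) n := by
  obtain ⟨χ, ⟨h1, h2, -⟩, -⟩ := Cfsg.Agent.S0867.result K (θ : K → ℂ) θ.2 hθ
    (charDegree (θ : K → ℂ)) (charDegree_cast (IsIrrCharacter.isCharacter θ.2)).symm (by
      apply Nat.Coprime.symm
      apply Nat.Coprime.mul_left
      · exact Nat.Coprime.coprime_dvd_left
          (detOrder_dvd_card (IsIrrCharacter.isCharacter θ.2)) hcop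
      · exact Nat.Coprime.coprime_dvd_left (degree_dvd_card θ.2) hcop)
  exact ⟨χ, h1, h2⟩

theorem one_irr (H : Type*) [Group H] : IsIrrCharacter H (1 : H → ℂ) := by
  have := isIrrCharacter_of_hom (1 : H →* ℂˣ)
  convert this using 1
  funext g
  simp

theorem hom_mem [Fintype G] (f : G →* ℂˣ) (hf : ∀ k ∈ K, f k = 1) :
    IsIrrCharacter G (fun g => (f g : ℂ)) ∧
      classInner (indFun K (1 : K → ℂ)) (fun g => (f g : ℂ)) ≠ 0 := by
  refine ⟨isIrrCharacter_of_hom f, ?_⟩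
  rw [frobenius_reciprocity K _ _ (irr_isClassFunction (isIrrCharacter_of_hom f))]
  have e : (fun h : K => ((f h : ℂˣ) : ℂ)) = (1 : K → ℂ) := by
    funext h
    rw [hf h h.2]
    rfl
  rw [e, classInner_irr (one_irr K) (one_irr K), if_pos rfl]
  exact one_ne_zero

theorem exists_hom_of_mem [Fintype G] {β : G → ℂ} (hβ : IsIrrCharacter G β)
    (h : classInner (indFun K (1 : K → ℂ)) β ≠ 0) (h1 : β 1 = 1) :
    ∃ f : G →* ℂˣ, (∀ k ∈ K, f k = 1) ∧ β = fun g => (f g : ℂ) := by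
  obtain ⟨f, rfl⟩ := exists_hom_of_degree_one (IsIrrCharacter.isCharacter hβ) h1
  refine ⟨f, ?_, rfl⟩
  rw [frobenius_reciprocity K _ _ (irr_isClassFunction hβ)] at h
  have h2 : IsIrrCharacter K (fun h : K => ((f h : ℂˣ) : ℂ)) :=
    isIrrCharacter_of_hom (f.comp K.subtype)
  rw [classInner_irr (one_irr K) h2] at h
  have h3 : (1 : K → ℂ) = (fun h : K => ((f h : ℂˣ) : ℂ)) := by
    by_contra hne
    rw [if_neg hne] at h
    exact h rfl
  intro k hk
  have := congrFun h3 ⟨k, hk⟩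
  apply Units.ext
  exact this.symm

theorem card_coprime_degree (hcop : (Nat.card K).Coprime K.index) :
    Nat.card {χ : IrrCharacter G // (charDegree (χ : G → ℂ)).Coprime K.index} =
      Nat.card {θ : IrrCharacter K // GInv K (θ : K → ℂ)} *
        Nat.card {f : G →* ℂˣ // ∀ k ∈ K, f k = 1} := by
  cases nonempty_fintype G
  choose ext hext1 hext2 using exists_ext K hcop
  have hgal : ∀ (θ : IrrCharacter K) (hθ : GInv K (θ : K → ℂ)),
      Set.BijOn (fun β : G → ℂ => β * ext θ hθ)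
        {β : G → ℂ | IsIrrCharacter G β ∧ classInner (indFun K (1 : K → ℂ)) β ≠ 0}
        {ψ : G → ℂ | IsIrrCharacter G ψ ∧
          classInner (indFun K ((1 : K → ℂ) * (θ : K → ℂ))) ψ ≠ 0} := by
    intro θ hθ
    exact Cfsg.Agent.S0856.result K (1 : K → ℂ) (θ : K → ℂ) (one_irr K) θ.2
      (fun _ _ => rfl) hθ (by rw [one_mul]; exact θ.2) (ext θ hθ) (hext1 θ hθ) (hext2 θ hθ)
  rw [← Nat.card_prod]
  symm
  have hirr : ∀ (θ : IrrCharacter K) (hθ : GInv K (θ : K → ℂ)) (f : G →* ℂˣ),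
      (∀ k ∈ K, f k = 1) → IsIrrCharacter G ((fun g => (f g : ℂ)) * ext θ hθ) := by
    intro θ hθ f hf
    exact ((hgal θ hθ).mapsTo (hom_mem K f hf)).1
  have hres : ∀ (θ : IrrCharacter K) (hθ : GInv K (θ : K → ℂ)) (f : G →* ℂˣ),
      (∀ k ∈ K, f k = 1) → ∀ n : K, ((fun g => (f g : ℂ)) * ext θ hθ) n = (θ : K → ℂ) n := by
    intro θ hθ f hf n
    simp only [Pi.mul_apply]
    rw [hf n n.2, hext2]
    simp
  have hdeg : ∀ (θ : IrrCharacter K) (hθ : GInv K (θ : K → ℂ)) (f : G →* ℂˣ)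
      (hf : ∀ k ∈ K, f k = 1),
      charDegree ((fun g => (f g : ℂ)) * ext θ hθ) = charDegree (θ : K → ℂ) := by
    intro θ hθ f hf
    have h1 := charDegree_cast (IsIrrCharacter.isCharacter (hirr θ hθ f hf))
    have h2 := charDegree_cast (IsIrrCharacter.isCharacter θ.2)
    have h3 := hres θ hθ f hf 1
    rw [Subgroup.coe_one] at h3
    rw [h3, ← h2] at h1
    exact_mod_cast h1
  apply Nat.card_eq_of_bijective
    (fun x : {θ : IrrCharacter K // GInv K (θ : K → ℂ)} × {f : G →* ℂˣ // ∀ k ∈ K, f k = 1} =>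
      (⟨⟨(fun g => (x.2.1 g : ℂ)) * ext x.1.1 x.1.2, hirr x.1.1 x.1.2 x.2.1 x.2.2⟩, by
        show (charDegree ((fun g => (x.2.1 g : ℂ)) * ext x.1.1 x.1.2)).Coprime K.index
        rw [hdeg x.1.1 x.1.2 x.2.1 x.2.2]
        exact Nat.Coprime.coprime_dvd_left (degree_dvd_card x.1.1.2) hcop⟩ :
        {χ : IrrCharacter G // (charDegree (χ : G → ℂ)).Coprime K.index}))
  constructor
  · rintro ⟨⟨θ, hθ⟩, ⟨f, hf⟩⟩ ⟨⟨θ', hθ'⟩, ⟨f', hf'⟩⟩ hh
    have hh' : (fun g => (f g : ℂ)) * ext θ hθ = (fun g => (f' g : ℂ)) * ext θ' hθ' :=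
      congrArg (fun x => (x.1.1 : G → ℂ)) hh
    have e1 : θ = θ' := by
      apply Subtype.ext
      funext n
      rw [← hres θ hθ f hf n, hh', hres θ' hθ' f' hf' n]
    subst e1
    have e2 := (hgal θ hθ).injOn (hom_mem K f hf) (hom_mem K f' hf') hh'
    have e3 : f = f' := by
      ext g
      exact congrFun e2 g
    subst e3
    rfl
  · rintro ⟨χ, hχ⟩
    obtain ⟨θ, hcon⟩ := Cfsg.Agent.Lib.Helper6.exists_constituent K χ.2
    obtain ⟨hd1, hd2⟩ := Cfsg.Agent.S0887.result K (χ : G → ℂ) χ.2 (θ : K → ℂ) θ.2 hcon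
      (charDegree (χ : G → ℂ)) (charDegree (θ : K → ℂ))
      (charDegree_cast (IsIrrCharacter.isCharacter χ.2)).symm
      (charDegree_cast (IsIrrCharacter.isCharacter θ.2)).symm
    have hq : charDegree (χ : G → ℂ) / charDegree (θ : K → ℂ) = 1 := by
      have h1 : charDegree (χ : G → ℂ) / charDegree (θ : K → ℂ) ∣ charDegree (χ : G → ℂ) :=
        Nat.div_dvd_of_dvd hd1
      exact Nat.eq_one_of_dvd_coprimes hχ h1 hd2
    have hdeq : charDegree (χ : G → ℂ) = charDegree (θ : K → ℂ) := by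
      have := Nat.div_mul_cancel hd1
      rw [hq, one_mul] at this
      exact this.symm
    have hr : (χ : G → ℂ) ∘ K.subtype = (θ : K → ℂ) := res_eq_of_degree_eq K χ θ hcon hdeq
    have hθ : GInv K (θ : K → ℂ) := by
      intro g n
      rw [← hr]
      exact irr_isClassFunction χ.2 n g
    have hmem : (χ : G → ℂ) ∈ {ψ : G → ℂ | IsIrrCharacter G ψ ∧
          classInner (indFun K ((1 : K → ℂ) * (θ : K → ℂ))) ψ ≠ 0} := by
      refine ⟨χ.2, ?_⟩
      rw [one_mul, frobenius_reciprocity K _ _ (irr_isClassFunction χ.2)]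
      have e : (fun h : K => (χ : G → ℂ) h) = (θ : K → ℂ) := hr
      rw [e, classInner_irr θ.2 θ.2, if_pos rfl]
      exact one_ne_zero
    obtain ⟨β, ⟨hβ1, hβ2⟩, hβ3⟩ := (hgal θ hθ).surjOn hmem
    have hβ3' : β * ext θ hθ = (χ : G → ℂ) := hβ3
    have hβone : β 1 = 1 := by
      have h1 := congrFun hβ3' 1
      have h2 := hext2 θ hθ 1
      have h3 := congrFun hr 1
      simp only [Pi.mul_apply, Function.comp_apply, Subgroup.coe_subtype, Subgroup.coe_one]
        at h1 h2 h3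
      rw [h2, h3] at h1
      exact mul_right_cancel₀ (irr_one_ne_zero θ.2) (by rw [h1, one_mul])
    obtain ⟨f, hf, rfl⟩ := exists_hom_of_mem K hβ1 hβ2 hβone
    refine ⟨⟨⟨θ, hθ⟩, ⟨f, hf⟩⟩, ?_⟩
    apply Subtype.ext
    apply Subtype.ext
    exact hβ3'

end count

end Cfsg.Agent.Lib.Lead.Glaub
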