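import Mathlib
import Cfsg.Agent.Lib.Lead.GlaubL

/-!
# Counting characters of degree prime to a complement
-/

set_option autoImplicit false

namespace Cfsg.Agent.Lib.Lead.Glaub

open Cfsg Cfsg.Agent.Lib.Helper2 Cfsg.Agent.Lib.Helper6 Cfsg.Agent.Lib.Helper24
open scoped ComplexConjugate Classical

theorem card_hom_trivial {G H₀ : Type*} [Group G] [Group H₀] (K : Subgroup G) (j : H₀ →* G)
    (π : G →* H₀) (hπj : ∀ h, π (j h) = h) (hker : ∀ x, π x = 1 ↔ x ∈ K) :
    Nat.card {f : G →* ℂˣ // ∀ k ∈ K, f k = 1} = Nat.card (H₀ →* ℂˣ) := by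
  apply Nat.card_congr
  refine ⟨fun f => f.1.comp j, fun g => ⟨g.comp π, fun k hk => ?_⟩, ?_, ?_⟩
  · rw [MonoidHom.comp_apply, (hker k).mpr hk, map_one]
  · intro f
    apply Subtype.ext
    ext x
    have h1 : x * (j (π x))⁻¹ ∈ K := by
      rw [← hker, map_mul, map_inv, hπj, mul_inv_cancel]
    have h2 := f.2 _ h1
    rw [map_mul, map_inv, mul_inv_eq_one] at h2
    simp only [MonoidHom.comp_apply]
    rw [h2]
  · intro g
    ext x
    simp only [MonoidHom.comp_apply]
    rw [hπj]

theorem index_eq_card_of_retract {G H₀ : Type*} [Group G] [Group H₀] (K : Subgroup G)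
    (j : H₀ →* G) (π : G →* H₀) (hπj : ∀ h, π (j h) = h) (hker : ∀ x, π x = 1 ↔ x ∈ K) :
    K.index = Nat.card H₀ := by
  have h1 : K = π.ker := by
    ext x
    rw [MonoidHom.mem_ker, hker]
  have h2 : π.range = ⊤ := MonoidHom.range_eq_top.mpr (fun h => ⟨j h, hπj h⟩)
  rw [h1, Subgroup.index_ker, h2, Subgroup.card_top]

theorem exists_retract {G : Type*} [Group G] (K H : Subgroup G) [hK : K.Normal]
    (hKH : K ⊔ H = ⊤) (hdisj : K ⊓ H = ⊥) :
    ∃ π : G →* H, (∀ h : H, π h = h) ∧ ∀ x, π x = 1 ↔ x ∈ K := by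
  have hbij : Function.Bijective ((QuotientGroup.mk' K).comp H.subtype) := by
    constructor
    · rw [injective_iff_map_eq_one]
      intro h hh
      have h1 : (h : G) ∈ K := (QuotientGroup.eq_one_iff _).mp hh
      have h2 : (h : G) ∈ K ⊓ H := ⟨h1, h.2⟩
      rw [hdisj, Subgroup.mem_bot] at h2
      exact Subtype.ext h2
    · intro x
      obtain ⟨x, rfl⟩ := QuotientGroup.mk_surjective x
      have hx : x ∈ K ⊔ H := hKH ▸ Subgroup.mem_top x
      rw [← SetLike.mem_coe, Subgroup.normal_mul] at hx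
      obtain ⟨k, hk, h, hh, rfl⟩ := Set.mem_mul.mp hx
      refine ⟨⟨h, hh⟩, ?_⟩
      change (QuotientGroup.mk h : G ⧸ K) = QuotientGroup.mk (k * h)
      rw [QuotientGroup.eq]
      have : h⁻¹ * (k * h) = h⁻¹ * k * h⁻¹⁻¹ := by group
      rw [this]
      exact hK.conj_mem k hk _
  let e : H ≃* G ⧸ K := MulEquiv.ofBijective _ hbij
  refine ⟨e.symm.toMonoidHom.comp (QuotientGroup.mk' K), ?_, ?_⟩
  · intro h
    have : e h = QuotientGroup.mk' K h := rfl
    simp only [MonoidHom.comp_apply]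
    rw [← this]
    exact e.symm_apply_apply h
  · intro x
    simp only [MonoidHom.comp_apply]
    constructor
    · intro h
      have h1 : QuotientGroup.mk' K x = 1 := by
        have := congrArg e h
        rw [map_one] at this
        rw [← this]
        exact (e.apply_symm_apply _).symm
      exact (QuotientGroup.eq_one_iff _).mp h1
    · intro h
      have h1 : QuotientGroup.mk' K x = 1 := (QuotientGroup.eq_one_iff _).mpr h
      rw [h1, map_one]

end Cfsg.Agent.Lib.Lead.Glaub
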