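import Mathlib
import Cfsg.Agent.Lib.Lead.GlaubM

/-!
# Fourier inversion on an abelian quotient, coset orthogonality, Gallagher sums
-/

set_option autoImplicit false

namespace Cfsg.Agent.Lib.Lead.Glaub

open Cfsg Cfsg.Agent.Lib.Helper2 Cfsg.Agent.Lib.Helper6 Cfsg.Agent.Lib.Helper24
open scoped ComplexConjugate Classical

section dual

variable {A : Type*} [Group A] [Finite A]

theorem card_hom (hA : ∀ a b : A, a * b = b * a) : Nat.card (A →* ℂˣ) = Nat.card A := by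
  letI : CommGroup A := { ‹Group A› with mul_comm := hA }
  exact CommGroup.card_monoidHom_of_hasEnoughRootsOfUnity A ℂ

theorem finite_hom (hA : ∀ a b : A, a * b = b * a) : Finite (A →* ℂˣ) := by
  apply Nat.finite_of_card_ne_zero
  rw [card_hom hA]
  exact Nat.card_pos.ne'

theorem exists_hom_ne_one (hA : ∀ a b : A, a * b = b * a) {a : A} (ha : a ≠ 1) :
    ∃ φ : A →* ℂˣ, φ a ≠ 1 := by
  letI : CommGroup A := { ‹Group A› with mul_comm := hA }
  exact CommGroup.exists_apply_ne_one_of_hasEnoughRootsOfUnity A ℂ ha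

theorem sum_hom_apply (hA : ∀ a b : A, a * b = b * a) [Fintype (A →* ℂˣ)] (a : A) :
    ∑ f : A →* ℂˣ, ((f a : ℂˣ) : ℂ) = if a = 1 then (Nat.card A : ℂ) else 0 := by
  split_ifs with h
  · subst h
    simp only [map_one, Units.val_one, Finset.sum_const, Finset.card_univ, nsmul_eq_mul, mul_one]
    rw [← card_hom hA, Nat.card_eq_fintype_card]
  · obtain ⟨φ, hφ⟩ := exists_hom_ne_one hA h
    have h1 : ∑ f : A →* ℂˣ, ((f a : ℂˣ) : ℂ) = ((φ a : ℂˣ) : ℂ) * ∑ f : A →* ℂˣ, ((f a : ℂˣ) : ℂ) := by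
      rw [Finset.mul_sum]
      rw [← Equiv.sum_comp (Equiv.mulLeft φ)]
      refine Finset.sum_congr rfl fun f _ => ?_
      simp
    have h2 : (((φ a : ℂˣ) : ℂ) - 1) * ∑ f : A →* ℂˣ, ((f a : ℂˣ) : ℂ) = 0 := by
      rw [sub_mul, one_mul, ← h1, sub_self]
    rcases mul_eq_zero.mp h2 with h3 | h3
    · exfalso
      apply hφ
      apply Units.ext
      rw [Units.val_one]
      exact sub_eq_zero.mp h3
    · exact h3

theorem fourier_inv (hA : ∀ a b : A, a * b = b * a) [Fintype (A →* ℂˣ)] [Fintype A] (F : A → ℂ)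
    (a₀ : A) :
    ∑ f : A →* ℂˣ, ((f a₀⁻¹ : ℂˣ) : ℂ) * ∑ a, ((f a : ℂˣ) : ℂ) * F a = (Nat.card A : ℂ) * F a₀ := by
  simp_rw [Finset.mul_sum]
  rw [Finset.sum_comm]
  have h1 : ∀ a : A, ∑ f : A →* ℂˣ, ((f a₀⁻¹ : ℂˣ) : ℂ) * (((f a : ℂˣ) : ℂ) * F a) =
      (if a₀⁻¹ * a = 1 then (Nat.card A : ℂ) else 0) * F a := by
    intro a
    rw [← sum_hom_apply hA, Finset.sum_mul]
    refine Finset.sum_congr rfl fun f _ => ?_
    rw [map_mul, Units.val_mul, mul_assoc]
  simp_rw [h1]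
  rw [Finset.sum_eq_single a₀]
  · rw [if_pos (inv_mul_cancel a₀)]
  · intro b _ hb
    rw [if_neg, zero_mul]
    intro h
    apply hb
    rw [inv_mul_eq_one] at h
    exact h.symm
  · intro h
    exact absurd (Finset.mem_univ _) h

end dual

section retract

variable {Γ A : Type*} [Group Γ] [Group A] (K : Subgroup Γ)
  (j : A →* Γ) (π : Γ →* A) (hπj : ∀ a, π (j a) = a) (hker : ∀ x, π x = 1 ↔ x ∈ K)

/-- the product decomposition attached to a retraction -/
def prodEquiv (hπj : ∀ a, π (j a) = a) (hker : ∀ x, π x = 1 ↔ x ∈ K) : A × K ≃ Γ where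
  toFun p := p.2 * j p.1
  invFun γ := (π γ, ⟨γ * (j (π γ))⁻¹, by
    rw [← hker, map_mul, map_inv, hπj, mul_inv_cancel]⟩)
  left_inv := by
    rintro ⟨a, k⟩
    have h1 : π ((k : Γ) * j a) = a := by
      rw [map_mul, (hker k).mpr k.2, one_mul, hπj]
    apply Prod.ext
    · exact h1
    · apply Subtype.ext
      simp only [h1]
      group
  right_inv := by
    intro γ
    simp

include hπj hker in
theorem sum_coset [Fintype Γ] [Fintype A] [Fintype K] (F : Γ → ℂ) :
    ∑ γ : Γ, F γ = ∑ a : A, ∑ k : K, F (k * j a) := by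
  rw [← Equiv.sum_comp (prodEquiv K j π hπj hker), Fintype.sum_prod_type]
  rfl

variable [hK : K.Normal] [Fintype Γ]

theorem gal_bij {χ : Γ → ℂ} (hχ : IsIrrCharacter Γ χ)
    (hθ : IsIrrCharacter K (fun k : K => χ k)) :
    Set.BijOn (fun β : Γ → ℂ => β * χ)
        {β : Γ → ℂ | IsIrrCharacter Γ β ∧ classInner (indFun K (1 : K → ℂ)) β ≠ 0}
        {ψ : Γ → ℂ | IsIrrCharacter Γ ψ ∧
          classInner (indFun K ((1 : K → ℂ) * (fun k : K => χ k))) ψ ≠ 0} :=
  Cfsg.Agent.S0856.result K (1 : K → ℂ) (fun k : K => χ k) (one_irr K) hθ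
      (fun _ _ => rfl) (fun g n => irr_isClassFunction hχ n g) (by rw [one_mul]; exact hθ) χ hχ
      (fun _ => rfl)

include hker in
theorem gal_irr {χ : Γ → ℂ} (hχ : IsIrrCharacter Γ χ)
    (hθ : IsIrrCharacter K (fun k : K => χ k)) (f : A →* ℂˣ) :
    IsIrrCharacter Γ (fun γ => ((f (π γ) : ℂˣ) : ℂ) * χ γ) :=
  ((gal_bij K hχ hθ).mapsTo (hom_mem K (f.comp π) (fun k hk => by
    rw [MonoidHom.comp_apply, (hker k).mpr hk, map_one]))).1

include hker hπj in
theorem gal_inj {χ : Γ → ℂ} (hχ : IsIrrCharacter Γ χ)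
    (hθ : IsIrrCharacter K (fun k : K => χ k)) {f f' : A →* ℂˣ}
    (h : (fun γ => ((f (π γ) : ℂˣ) : ℂ) * χ γ) = (fun γ => ((f' (π γ) : ℂˣ) : ℂ) * χ γ)) :
    f = f' := by
  have h1 := (gal_bij K hχ hθ).injOn (hom_mem K (f.comp π) (fun k hk => by
    rw [MonoidHom.comp_apply, (hker k).mpr hk, map_one])) (hom_mem K (f'.comp π) (fun k hk => by
    rw [MonoidHom.comp_apply, (hker k).mpr hk, map_one])) h
  ext a
  have h2 := congrFun h1 (j a)
  simp only [MonoidHom.comp_apply, hπj] at h2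
  exact h2

variable [Finite A]

omit hK [Fintype Γ] [Finite A] in
include hker hπj in
theorem card_eq_mul : (Nat.card Γ : ℂ) = (Nat.card A : ℂ) * (Nat.card K : ℂ) := by
  rw [← index_eq_card_of_retract K j π hπj hker, ← Nat.cast_mul, mul_comm, K.card_mul_index]

include hker hπj in
/-- the general form of coset orthogonality -/
theorem coset_sum (hA : ∀ a b : A, a * b = b * a) [Fintype (A →* ℂˣ)] [Fintype K]
    {χ χ' : Γ → ℂ} (hχ : IsIrrCharacter Γ χ)
    (hθ : IsIrrCharacter K (fun k : K => χ k)) (hχ' : IsIrrCharacter Γ χ') (a₀ : A) :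
    ∑ k : K, χ (k * j a₀) * conj (χ' (k * j a₀)) =
      (Nat.card K : ℂ) * ∑ f : A →* ℂˣ, ((f a₀⁻¹ : ℂˣ) : ℂ) *
        (if (fun γ => ((f (π γ) : ℂˣ) : ℂ) * χ γ) = χ' then 1 else 0) := by
  haveI := Fintype.ofFinite A
  have hA0 : (Nat.card A : ℂ) ≠ 0 := Nat.cast_ne_zero.mpr Nat.card_pos.ne'
  have hΓ0 : (Nat.card Γ : ℂ) ≠ 0 := Nat.cast_ne_zero.mpr Nat.card_pos.ne'
  have h1 := fourier_inv hA (fun a => ∑ k : K, χ (k * j a) * conj (χ' (k * j a))) a₀
  have h2 : ∀ f : A →* ℂˣ, ∑ a, ((f a : ℂˣ) : ℂ) * ∑ k : K, χ (k * j a) * conj (χ' (k * j a)) =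
      (Nat.card Γ : ℂ) * (if (fun γ => ((f (π γ) : ℂˣ) : ℂ) * χ γ) = χ' then 1 else 0) := by
    intro f
    rw [← classInner_irr (gal_irr K π hker hχ hθ f) hχ']
    unfold classInner
    rw [mul_inv_cancel_left₀ hΓ0, sum_coset K j π hπj hker]
    refine Finset.sum_congr rfl fun a _ => ?_
    rw [Finset.mul_sum]
    refine Finset.sum_congr rfl fun k _ => ?_
    simp only []
    rw [map_mul, (hker k).mpr k.2, one_mul, hπj, mul_assoc]
  simp_rw [h2] at h1
  apply mul_left_cancel₀ hA0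
  rw [← h1, ← mul_assoc, ← card_eq_mul K j π hπj hker, Finset.mul_sum]
  refine Finset.sum_congr rfl fun f _ => ?_
  ring

include hker hπj in
theorem coset_orth_self (hA : ∀ a b : A, a * b = b * a) [Fintype K]
    {χ : Γ → ℂ} (hχ : IsIrrCharacter Γ χ)
    (hθ : IsIrrCharacter K (fun k : K => χ k)) (a₀ : A) :
    ∑ k : K, χ (k * j a₀) * conj (χ (k * j a₀)) = (Nat.card K : ℂ) := by
  haveI := finite_hom hA
  haveI := Fintype.ofFinite (A →* ℂˣ)
  rw [coset_sum K j π hπj hker hA hχ hθ hχ a₀, Finset.sum_eq_single (1 : A →* ℂˣ)]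
  · rw [if_pos]
    · simp
    · funext γ
      simp
  · intro f _ hf
    rw [if_neg, mul_zero]
    intro h
    apply hf
    apply gal_inj K j π hπj hker hχ hθ
    rw [h]
    funext γ
    simp
  · intro h
    exact absurd (Finset.mem_univ _) h

include hker hπj in
theorem coset_orth_ne (hA : ∀ a b : A, a * b = b * a) [Fintype K]
    {χ χ' : Γ → ℂ} (hχ : IsIrrCharacter Γ χ)
    (hθ : IsIrrCharacter K (fun k : K => χ k)) (hχ' : IsIrrCharacter Γ χ')
    (hne : (fun k : K => χ k) ≠ (fun k : K => χ' k)) (a₀ : A) :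
    ∑ k : K, χ (k * j a₀) * conj (χ' (k * j a₀)) = 0 := by
  haveI := finite_hom hA
  haveI := Fintype.ofFinite (A →* ℂˣ)
  rw [coset_sum K j π hπj hker hA hχ hθ hχ' a₀, Finset.sum_eq_zero, mul_zero]
  intro f _
  rw [if_neg, mul_zero]
  intro h
  apply hne
  funext k
  rw [← h]
  simp only []
  rw [(hker k).mpr k.2, map_one, Units.val_one, one_mul]

include hker hπj in
/-- Gallagher: the induced character of an extendible character -/
theorem ind_eq_sum (hA : ∀ a b : A, a * b = b * a) [Fintype (A →* ℂˣ)]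
    {χ : Γ → ℂ} (hχ : IsIrrCharacter Γ χ) :
    indFun K (fun k : K => χ k) = ∑ f : A →* ℂˣ, (fun γ => ((f (π γ) : ℂˣ) : ℂ) * χ γ) := by
  funext γ
  rw [Finset.sum_apply, ← Finset.sum_mul, sum_hom_apply hA]
  have hK0 : (Nat.card K : ℂ) ≠ 0 := Nat.cast_ne_zero.mpr Nat.card_pos.ne'
  by_cases hγ : γ ∈ K
  · rw [if_pos ((hker γ).mpr hγ)]
    have h1 := indFun_coe_of_normal K (fun k : K => χ k) ⟨γ, hγ⟩
    rw [h1]
    have h2 : ∀ x : Γ, conjFun K x (fun k : K => χ k) ⟨γ, hγ⟩ = χ γ := by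
      intro x
      have := irr_isClassFunction hχ γ x⁻¹
      rw [inv_inv] at this
      exact this
    simp_rw [h2]
    rw [Finset.sum_const, Finset.card_univ, nsmul_eq_mul, ← Nat.card_eq_fintype_card,
      card_eq_mul K j π hπj hker]
    field_simp
  · rw [if_neg (fun h => hγ ((hker γ).mp h)), zero_mul]
    exact indFun_of_not_mem_normal K _ hγ

end retract

section sub

variable {Γ : Type*} [Group Γ] [Finite Γ]

/-- invariant irreducible characters and classes of the centraliser, for subgroups -/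
theorem card_inv_sub (G S C : Subgroup Γ) (hnorm : ∀ s ∈ S, ∀ g ∈ G, s * g * s⁻¹ ∈ G)
    (hcop : (Nat.card G).Coprime (Nat.card S)) (hsolv : Group.IsSolvable S)
    (hC : C = G ⊓ Subgroup.centralizer (S : Set Γ)) :
    Nat.card {χ : IrrCharacter G // Inv (conjOn G S hnorm) (χ : G → ℂ)} =
      Nat.card (ConjClasses C) := by
  have hCG : C ≤ G := hC ▸ inf_le_left
  rw [card_inv_eq _ G S (conjOn G S hnorm) rfl hsolv hcop]
  exact card_invC_eq _ G S (conjOn G S hnorm) C (Subgroup.inclusion hCG) rfl hsolv hcop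
    (Subgroup.inclusion_injective hCG) (fun g => (conjOn_fix G S C hnorm hC hCG g).symm)

end sub

end Cfsg.Agent.Lib.Lead.Glaub
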