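import Mathlib
import Cfsg.Agent.Lib.Lead.GlaubN
import Cfsg.Agent.Lib.Helper25.Twist
import Cfsg.Agent.Lib.Helper25.GaloisVal
import Cfsg.Agent.Lib.Helper13.DetChar
import Cfsg.Agent.S1496

/-!
# The canonical extension is fixed by Galois twists that fix the normal subgroup
-/

set_option autoImplicit false

namespace Cfsg.Agent.Lib.Lead.Glaub

open Cfsg Cfsg.Agent.Lib.Helper2 Cfsg.Agent.Lib.Helper6 Cfsg.Agent.Lib.Helper24
open Cfsg.Agent.Lib.Helper25.Twist Cfsg.Agent.Lib.Helper13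
open scoped ComplexConjugate Classical

theorem detChar_tw {Γ : Type*} [Group Γ] [Finite Γ] {χ : Γ → ℂ} (hχ : IsCharacter Γ χ) {m : ℕ}
    (hm : m.Coprime (Nat.card Γ)) (g : Γ) : detChar (tw m χ) g = detChar χ (g ^ m) := by
  set Z := Subgroup.zpowers g with hZ
  have hcomm : ∀ a b : Z, Commute a b := by
    intro a b
    obtain ⟨a, ha⟩ := a
    obtain ⟨b, hb⟩ := b
    obtain ⟨i, rfl⟩ := Subgroup.mem_zpowers_iff.mp ha
    obtain ⟨j, rfl⟩ := Subgroup.mem_zpowers_iff.mp hb
    apply Subtype.ext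
    exact (Commute.zpow_zpow_self g i j)
  let pw : Z →* Z :=
    { toFun := fun z => z ^ m
      map_one' := one_pow m
      map_mul' := fun a b => (hcomm a b).mul_pow m }
  have h1 := congrFun (detChar_comp_hom Z.subtype (isChar_tw hm hχ)) ⟨g, Subgroup.mem_zpowers g⟩
  have h2 := congrFun (detChar_comp_hom pw (IsCharacter.restrict Z hχ)) ⟨g, Subgroup.mem_zpowers g⟩
  have h3 := congrFun (detChar_comp_hom Z.subtype hχ) (pw ⟨g, Subgroup.mem_zpowers g⟩)
  have e : (fun h : Z => tw m χ (Z.subtype h)) = (fun h : Z => (fun z : Z => χ z) (pw h)) := by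
    funext h
    rfl
  rw [e, h2] at h1
  have h3' : detChar (fun z : Z => χ z) (pw ⟨g, Subgroup.mem_zpowers g⟩) = detChar χ (g ^ m) := h3
  rw [h3'] at h1
  exact h1.symm

theorem detOrder_tw_dvd {Γ : Type*} [Group Γ] [Finite Γ] {χ : Γ → ℂ} (hχ : IsCharacter Γ χ) {m : ℕ}
    (hm : m.Coprime (Nat.card Γ)) : detOrder (tw m χ) ∣ detOrder χ := by
  apply orderOf_dvd_of_pow_eq_one
  funext g
  have h1 : (detChar χ) ^ detOrder χ = 1 := pow_orderOf_eq_one _
  have h2 := congrFun h1 (g ^ m)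
  simp only [Pi.pow_apply, Pi.one_apply] at h2 ⊢
  rw [detChar_tw hχ hm, h2]

/-- the canonical extension is fixed by the twists which fix the normal subgroup -/
theorem tw_canonical {Γ : Type*} [Group Γ] [Finite Γ] (G : Subgroup Γ) [hG : G.Normal]
    (hcop : (Nat.card G).Coprime G.index) {χh : Γ → ℂ} (hχh : IsIrrCharacter Γ χh)
    (hχ : IsIrrCharacter G (fun g : G => χh g)) (hdet : (detOrder χh).Coprime G.index)
    {m : ℕ} (hm : m.Coprime (Nat.card Γ)) (hm1 : m ≡ 1 [MOD Nat.card G]) : tw m χh = χh := by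
  obtain ⟨χ₀, -, huniq⟩ := Cfsg.Agent.S0867.result G (fun g : G => χh g) hχ
    (fun g n => irr_isClassFunction hχh n g)
    (charDegree (fun g : G => χh g)) (charDegree_cast (IsIrrCharacter.isCharacter hχ)).symm (by
      apply Nat.Coprime.symm
      apply Nat.Coprime.mul_left
      · exact Nat.Coprime.coprime_dvd_left
          (detOrder_dvd_card (IsIrrCharacter.isCharacter hχ)) hcop
      · exact Nat.Coprime.coprime_dvd_left (degree_dvd_card hχ) hcop)
  refine Eq.trans ?_ (huniq χh hχh (fun _ => rfl) hdet.symm).symm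
  apply huniq _ (isIrr_tw hm hχh)
  · intro n
    rw [tw_apply]
    have h1 : (n : Γ) ^ m = n := by
      have h2 : n ^ m = n ^ 1 := by
        rw [pow_eq_pow_iff_modEq]
        exact hm1.of_dvd (orderOf_dvd_natCard n)
      rw [pow_one] at h2
      exact congrArg (fun t : G => (t : Γ)) h2
    rw [h1]
  · exact (Nat.Coprime.coprime_dvd_left
      (detOrder_tw_dvd (IsIrrCharacter.isCharacter hχh) hm) hdet).symm

end Cfsg.Agent.Lib.Lead.Glaub
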